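import Cfsg.Agent.Lib.Char.MEleven.Order.Tools

/-!
# Simple groups of order 7920: the principal block for the prime eleven
-/

set_option autoImplicit false
set_option linter.all false

open Cfsg CfsgLib.Perm.PrimeBlock CfsgLib.Block Finset
open scoped ComplexConjugate

namespace CfsgLib.Char.MEleven.Order

theorem eleven_params : ∀ n ∈ Nat.divisors 720, ∀ e ∈ [2, 5, 10], n % 11 = 1 → 1 < n →
    (720 / n) % e = 0 → possible 7920 720 11 e (720 / n / e) 90 = true → n = 144 ∧ e = 5 := by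
  decide +kernel

theorem eleven_lists : degLists 7920 720 11 5 90 =
    [[-10, 12, 12, 45], [-10, -10, 12, 12], [-10, -10, -10, 45]] := by
  decide +kernel

theorem values_A : ∀ a ∈ [(2 : ℤ), -2, 6, -6], ∀ b ∈ [(2 : ℤ), -2, 6, -6], ∀ c ∈ [(2 : ℤ), -2, 6, -6],
    ∀ d ∈ (List.range 89).map (fun (n : ℕ) => (n : ℤ) - 44), d % 4 = 1 →
      (1 - a - b - c + d).natAbs < 16 →
      720 - 72 * (a * a + b * b + c * c) + 16 * (d * d) - 45 * ((1 - a - b - c + d) * (1 - a - b - c + d)) = 0 →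
      d = -3 ∧ 1 - a - b - c + d = 0 ∧ a * a + b * b + c * c = 12 := by
  decide +kernel

theorem values_B : ∀ a ∈ [(2 : ℤ), -2, 6, -6], ∀ b ∈ [(2 : ℤ), -2, 6, -6],
    ∀ c ∈ [(0 : ℤ), 4, -4, 8, -8], ∀ d ∈ [(0 : ℤ), 4, -4, 8, -8],
      (1 - a - b + c + d).natAbs < 5 →
      60 - 6 * (a * a + b * b) + 5 * (c * c + d * d) - 12 * ((1 - a - b + c + d) * (1 - a - b + c + d)) = 0 →
      c = 0 ∧ d = 0 := by
  decide +kernel

universe u

variable {G : Type u} [Group G] [Finite G] [IsSimpleGroup G]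

theorem noncomm (h : Nat.card G = 7920) : ¬ IsMulCommutative G := fun hc => by
  haveI := hc
  letI : CommGroup G :=
    { (inferInstance : Group G) with mul_comm := fun a b => IsMulCommutative.is_comm.comm a b }
  have hp : (Nat.card G).Prime := IsSimpleGroup.prime_card (α := G)
  rw [h] at hp
  norm_num at hp

/-- The Sylow 11-subgroup and the shape of its principal block. -/
theorem eleven_data [Fintype G] (h : Nat.card G = 7920) : ∃ P : Sylow 11 G, Nat.card (P : Subgroup G) = 11 ∧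
    Nat.card (Subgroup.centralizer ((P : Subgroup G) : Set G)) = 11 ∧
    Nat.card (Subgroup.normalizer ((P : Subgroup G) : Set G)) = 55 ∧
    Nonempty (Shape 11 5 (P : Subgroup G)) := by
  haveI : Fact (Nat.Prime 11) := ⟨by norm_num⟩
  have hG := noncomm h
  obtain ⟨P, n, e, c, hP, hn, hn1, hn2, -, he2, hep, hC, hN, -, ⟨S⟩⟩ :=
    exists_data hG 11 720 (by norm_num) (by rw [h]) (by norm_num)
  have hposs := S.possible_eq hG hP (m := 720) (B := 90) (by rw [h]) hep he2 hC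
    (fun hc => (by norm_num : ¬ 11 ∣ 720) (hn ▸ hc.trans ((dvd_mul_left c e).trans (dvd_mul_left _ n))))
    (by rw [h]; norm_num)
  have hnd : n ∈ Nat.divisors 720 := Nat.mem_divisors.2 ⟨⟨e * c, hn.symm⟩, by norm_num⟩
  have hel : e ∈ [2, 5, 10] := by
    have := Nat.le_of_dvd (by norm_num) hep
    interval_cases e <;> simp_all
  have hmn : 720 / n = e * c := by rw [← hn, Nat.mul_div_cancel_left _ (by omega)]
  have hcc : 720 / n / e = c := by rw [hmn, Nat.mul_div_cancel_left _ (by omega)]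
  rw [h, ← hcc] at hposs
  obtain ⟨rfl, rfl⟩ := eleven_params n hnd e hel hn1 hn2 (by rw [hmn]; exact Nat.mul_mod_right _ _) hposs
  obtain rfl : c = 1 := by omega
  exact ⟨P, hP, by rw [hC], by rw [hN], ⟨S⟩⟩

variable [Fintype G] {P : Sylow 11 G}

/-- The signed degree. -/
noncomputable def sd {p e : ℕ} {Q : Subgroup G} (S : Shape p e Q) (χ : IrrCharacter G) : ℤ :=
  S.εX χ * (dg χ : ℤ)

theorem rel_one {p e : ℕ} [hp : Fact p.Prime] {Q : Subgroup G} (S : Shape p e Q)
    {θ : IrrCharacter G} (hθ : θ ∈ S.Y) :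
    S.ε * (S.D : ℤ) = 1 + ∑ χ ∈ S.X, sd S χ := by
  have h := S.relation θ hθ 1 (by rw [orderOf_one]; exact hp.out.not_dvd_one)
  simp only [val_one, show dg θ = S.D from S.degree_Y θ hθ] at h
  simp only [sd]
  exact_mod_cast h

variable (h : Nat.card G = 7920) (hP : Nat.card (P : Subgroup G) = 11)
  (hC : Nat.card (Subgroup.centralizer ((P : Subgroup G) : Set G)) = 11)
  (hN : Nat.card (Subgroup.normalizer ((P : Subgroup G) : Set G)) = 55)
  (S : Shape 11 5 (P : Subgroup G))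

include hP hC in
/-- The characters outside the block. -/
theorem eleven_outside (χ : IrrCharacter G) (h1 : χ ≠ oneChar G) (hX : χ ∉ S.X) (hY : χ ∉ S.Y) :
    11 ∣ dg χ := by
  haveI : Fact (Nat.Prime 11) := ⟨by norm_num⟩
  exact dvd_dg_of_zero hP χ (S.outside hC χ h1 hX hY)

include h in
/-- The two possibilities for the block. -/
theorem eleven_cases : ∃ a b c d : IrrCharacter G, [a, b, c, d].Nodup ∧ S.X = [a, b, c, d].toFinset ∧
    ((sd S a = -10 ∧ sd S b = -10 ∧ sd S c = -10 ∧ sd S d = 45 ∧ S.ε = 1 ∧ S.D = 16) ∨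
      (sd S a = -10 ∧ sd S b = -10 ∧ sd S c = 12 ∧ sd S d = 12 ∧ S.ε = 1 ∧ S.D = 5)) := by
  classical
  haveI : Fact (Nat.Prime 11) := ⟨by norm_num⟩
  haveI := Fintype.ofFinite (IrrCharacter G)
  have hG := noncomm h
  have hg : Nat.card G = 720 * 11 := by rw [h]
  have hB : Nat.card G ≤ 90 * 90 := by rw [h]; norm_num
  obtain ⟨θ, hθ⟩ : S.Y.Nonempty := Finset.card_pos.1 (by rw [S.card_Y]; norm_num)
  obtain ⟨X', hperm, hmem⟩ := exists_combo (fun χ => sd S χ) _ S.X.toList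
    (fun χ hχ => S.mem_cands_one hG hg hB (Finset.mem_toList.1 hχ))
  have hX4 : S.X.card = 4 := by have := S.card_X; omega
  rw [Finset.length_toList, hX4] at hmem
  have hsum : (X'.map fun χ => sd S χ).sum = ∑ χ ∈ S.X, sd S χ := by
    rw [(hperm.map _).sum_eq, Finset.sum_map_toList]
  have hrel := rel_one S hθ
  have hdl : X'.map (fun χ => sd S χ) ∈ degLists 7920 720 11 5 90 := by
    have hh := S.okAbs_Y hG hg (by norm_num) (by norm_num) hθ
    rw [h] at hh hmem
    simp only [degLists, List.mem_filter, show (5 : ℕ) - 1 = 4 from rfl, hmem, true_and,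
      Bool.and_eq_true, beq_iff_eq, hsum, ← hrel]
    exact hh
  rw [eleven_lists] at hdl
  have hlen : X'.length = 4 := by rw [hperm.length_eq, Finset.length_toList, hX4]
  obtain ⟨a, b, c, d, rfl⟩ : ∃ a b c d, X' = [a, b, c, d] := by
    match X', hlen with
    | [a, b, c, d], _ => exact ⟨a, b, c, d, rfl⟩
  have hnd : [a, b, c, d].Nodup := hperm.nodup_iff.2 S.X.nodup_toList
  have hXeq : S.X = [a, b, c, d].toFinset := by
    rw [List.toFinset_eq_of_perm _ _ hperm, Finset.toList_toFinset]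
  rw [← hsum] at hrel
  refine ⟨a, b, c, d, hnd, hXeq, ?_⟩
  simp only [List.map_cons, List.map_nil, List.sum_cons, List.sum_nil, List.mem_cons,
    List.cons.injEq, and_true, List.not_mem_nil, or_false] at hdl hrel
  rcases hdl with ⟨ha, hb, hc, hd⟩ | ⟨ha, hb, hc, hd⟩ | ⟨ha, hb, hc, hd⟩ <;>
    rw [ha, hb, hc, hd] at hrel <;> norm_num at hrel
  · exfalso
    have hD : S.D = 60 := by rcases S.sign with e | e <;> rw [e] at hrel <;> omega
    have hsq := sum_dg_sq (G := G)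
    have hsub := Finset.sum_le_sum_of_subset (f := fun χ : IrrCharacter G => dg χ ^ 2)
      (Finset.subset_univ (S.X ∪ S.Y))
    rw [hsq, h, Finset.sum_union S.disjoint, hXeq, List.sum_toFinset _ hnd,
      Finset.sum_congr rfl (fun θ hθ => show dg θ ^ 2 = 60 ^ 2 by rw [show dg θ = S.D from S.degree_Y θ hθ, hD]),
      Finset.sum_const, S.card_Y] at hsub
    have h45 : dg d = 45 := by
      have hs := S.sign_X d (by rw [hXeq]; simp)
      simp only [sd] at hd
      rcases hs with e | e <;> rw [e] at hd <;> omega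
    simp [h45] at hsub
    omega
  · right
    refine ⟨ha, hb, hc, hd, ?_⟩
    rcases S.sign with e | e <;> rw [e] at hrel ⊢ <;> omega
  · left
    refine ⟨ha, hb, hc, hd, ?_⟩
    rcases S.sign with e | e <;> rw [e] at hrel ⊢ <;> omega

include hP hC in
omit [IsSimpleGroup G] in
/-- An element of order 11 is self-centralizing. -/
theorem cent_eleven {x : G} (hx : orderOf x = 11) :
    Nat.card (Subgroup.centralizer ({x} : Set G)) = 11 := by
  haveI : Fact (Nat.Prime 11) := ⟨by norm_num⟩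
  rw [centralizer_of_order hP hx, hC]

include hP hC hN in
/-- No involution inverts a non-trivial element of `P`. -/
theorem classConst_zero {u x : G} (hu : orderOf u = 2) (hx : x ∈ (P : Subgroup G)) (hx1 : x ≠ 1) :
    CfsgLib.Char.classConst u u x = 0 := by
  haveI : Fact (Nat.Prime 11) := ⟨by norm_num⟩
  rw [CfsgLib.Char.classConst, Nat.card_eq_zero]
  refine Or.inl ⟨fun ⟨⟨a, b⟩, ha, hb, hab⟩ => ?_⟩
  obtain ⟨-, -, hinv, ho⟩ := pair_inverts hu ha hb hab
  have hgen : Subgroup.zpowers x = (P : Subgroup G) := CfsgLib.Perm.Small.zpowers_eq_of_mem hP hx hx1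
  have hmem : a ∈ Subgroup.normalizer ((P : Subgroup G) : Set G) := by
    rw [Subgroup.mem_normalizer_iff_map_conj_eq, ← hgen, MonoidHom.map_zpowers]
    simp [MulAut.conj_apply, hinv]
  have h2 := Subgroup.orderOf_dvd_natCard _ hmem
  rw [hN, ho] at h2
  norm_num at h2

include h hP hC hN in
/-- The two equations at an involution. -/
theorem invol_eq {u : G} (hu : orderOf u = 2) {θ : IrrCharacter G} (hθ : θ ∈ S.Y) (r : IrrCharacter G → ℤ)
    (hr : ∀ χ ∈ S.X, (χ : G → ℂ) u = r χ) {t : ℤ} (ht : (θ : G → ℂ) u = t) :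
    S.ε * t = 1 + ∑ χ ∈ S.X, S.εX χ * r χ ∧
      1 + ∑ χ ∈ S.X, (r χ : ℂ) * r χ * S.εX χ / (dg χ : ℂ) - (t : ℂ) * t * S.ε / (S.D : ℂ) = 0 := by
  classical
  haveI : Fact (Nat.Prime 11) := ⟨by norm_num⟩
  haveI := Fintype.ofFinite (IrrCharacter G)
  have hur : ¬ 11 ∣ orderOf u := by rw [hu]; norm_num
  refine ⟨?_, ?_⟩
  · have hh := S.relation θ hθ u hur
    rw [ht, Finset.sum_congr rfl fun χ hχ => by rw [hr χ hχ]] at hh
    exact_mod_cast hh
  obtain ⟨x', hx'⟩ := exists_prime_orderOf_dvd_card' (G := (P : Subgroup G)) 11 (by rw [hP])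
  have hx : (x' : G) ∈ (P : Subgroup G) := x'.2
  have hx1 : (x' : G) ≠ 1 := fun e => by
    rw [← Subgroup.orderOf_coe, e, orderOf_one] at hx'; norm_num at hx'
  have hm := class_mul u u (x' : G)
  rw [classConst_zero hP hC hN hu hx hx1, Nat.cast_zero, zero_mul, zero_mul] at hm
  have hg : (Nat.card G : ℂ) ≠ 0 := Nat.cast_ne_zero.2 Nat.card_pos.ne'
  have hsum := (mul_eq_zero.1 hm.symm).resolve_left hg
  rw [← Finset.sum_subset (Finset.subset_univ ({oneChar G} ∪ S.X ∪ S.Y)) (fun ψ _ hψ => by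
    simp only [Finset.mem_union, Finset.mem_singleton, not_or] at hψ
    rw [S.outside hC ψ hψ.1.1 hψ.1.2 hψ.2 _ hx hx1, map_zero, mul_zero, zero_div]),
    Finset.sum_union (Finset.disjoint_union_left.2
      ⟨Finset.disjoint_singleton_left.2 S.one_notMem_Y, S.disjoint⟩),
    Finset.sum_union (Finset.disjoint_singleton_left.2 S.one_notMem_X), Finset.sum_singleton] at hsum
  have h1o : ¬ 11 ∣ orderOf (1 : G) := by rw [orderOf_one]; norm_num
  have e1 : ∀ g : G, ((oneChar G : IrrCharacter G) : G → ℂ) g = 1 := fun _ => rfl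
  have hX : ∀ χ ∈ S.X, (χ : G → ℂ) u * (χ : G → ℂ) u * conj ((χ : G → ℂ) (x' : G)) / (dg χ : ℂ) =
      (r χ : ℂ) * r χ * S.εX χ / (dg χ : ℂ) := by
    intro χ hχ
    have hv := S.value_X χ hχ _ hx hx1 1 (one_mem _) h1o
    rw [mul_one] at hv
    rw [hr χ hχ, hv, map_intCast]
  have hY : ∑ ψ ∈ S.Y, (ψ : G → ℂ) u * (ψ : G → ℂ) u * conj ((ψ : G → ℂ) (x' : G)) / (dg ψ : ℂ) =
      -((t : ℂ) * t * S.ε / (S.D : ℂ)) := by
    have hv := S.value_Y _ hx hx1 1 (one_mem _) h1o
    simp only [mul_one] at hv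
    calc _ = ∑ ψ ∈ S.Y, (t : ℂ) * t / (S.D : ℂ) * conj ((ψ : G → ℂ) (x' : G)) := by
            refine Finset.sum_congr rfl fun ψ hψ => ?_
            rw [S.regular_Y ψ hψ θ hθ u hur, ht, show dg ψ = S.D from S.degree_Y ψ hψ]
            ring
      _ = _ := by
            rw [← Finset.mul_sum, ← map_sum, hv, map_neg, map_intCast]
            ring
  rw [hY, Finset.sum_congr rfl hX, e1, e1, map_one, dg_one] at hsum
  rw [← hsum]
  norm_num
  ring

include h hP hC hN in
/-- Block degrees prime to five vanish at involutions. -/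
theorem small_vanish : (∀ χ : IrrCharacter G, χ ≠ oneChar G → ¬ 11 ∣ dg χ → ¬ 5 ∣ dg χ →
      (dg χ = 12 ∨ dg χ = 16) ∧ ∀ u : G, orderOf u = 2 → (χ : G → ℂ) u = 0) ∧
    (∀ u : G, orderOf u = 2 → ∀ a b c d : IrrCharacter G,
      [a, b, c, d].Nodup → S.X = [a, b, c, d].toFinset → sd S a = -10 → sd S b = -10 → sd S c = -10 →
      sd S d = 45 → S.D = 16 → S.ε = 1 →
        ∃ ra rb rc : ℤ, (a : G → ℂ) u = ra ∧ (b : G → ℂ) u = rb ∧ (c : G → ℂ) u = rc ∧
          (d : G → ℂ) u = ((-3 : ℤ) : ℂ) ∧ (∀ θ ∈ S.Y, (θ : G → ℂ) u = 0) ∧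
          ra + rb + rc = -2 ∧ ra * ra + rb * rb + rc * rc = 12) := by
  classical
  haveI : Fact (Nat.Prime 11) := ⟨by norm_num⟩
  have hG := noncomm h
  have main : ∀ u : G, orderOf u = 2 → ∀ a b c d : IrrCharacter G, [a, b, c, d].Nodup →
      S.X = [a, b, c, d].toFinset → ∀ za zb zc zd : ℤ, sd S a = za → sd S b = zb → sd S c = zc →
      sd S d = zd → S.ε = 1 → ∀ θ ∈ S.Y,
      ∃ ra rb rc rd t : ℤ, (a : G → ℂ) u = ra ∧ (b : G → ℂ) u = rb ∧ (c : G → ℂ) u = rc ∧
        (d : G → ℂ) u = rd ∧ (θ : G → ℂ) u = t ∧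
        (ra.natAbs < za.natAbs ∧ rb.natAbs < zb.natAbs ∧ rc.natAbs < zc.natAbs ∧ rd.natAbs < zd.natAbs) ∧
        t.natAbs < S.D ∧
        ((ra - za.natAbs) % 4 = 0 ∧ (rb - zb.natAbs) % 4 = 0 ∧ (rc - zc.natAbs) % 4 = 0 ∧
          (rd - zd.natAbs) % 4 = 0) ∧
        (t = 1 + S.εX a * ra + S.εX b * rb + S.εX c * rc + S.εX d * rd) ∧
        (1 + (ra : ℂ) * ra / za + (rb : ℂ) * rb / zb + (rc : ℂ) * rc / zc + (rd : ℂ) * rd / zd -
          (t : ℂ) * t / (S.D : ℂ) = 0) := by
    intro u hu a b c d hnd hXeq za zb zc zd hza hzb hzc hzd hε θ hθ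
    have hne : ∀ χ ∈ S.X, χ ≠ oneChar G := fun χ hχ e => S.one_notMem_X (e ▸ hχ)
    choose! r hr hlt h4 using fun χ (hχ : χ ∈ S.X) => value_invol hG χ (hne χ hχ) hu
    obtain ⟨t, ht, htlt, -⟩ := value_invol hG θ (fun e => S.one_notMem_Y (e ▸ hθ)) hu
    rw [show dg θ = S.D from S.degree_Y θ hθ] at htlt
    obtain ⟨e1, e2⟩ := invol_eq h hP hC hN S hu hθ r hr ht
    have mem : ∀ χ ∈ [a, b, c, d], χ ∈ S.X := fun χ hχ => by rw [hXeq]; exact List.mem_toFinset.2 hχ
    have habs : ∀ χ ∈ S.X, ∀ z : ℤ, sd S χ = z → z.natAbs = dg χ ∧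
        (r χ : ℂ) * r χ * S.εX χ / (dg χ : ℂ) = (r χ : ℂ) * r χ / (z : ℂ) := by
      intro χ hχ z hz
      subst hz
      simp only [sd]
      rcases S.sign_X χ hχ with e | e <;> rw [e] <;> simp [div_neg, neg_div]
    obtain ⟨na, qa⟩ := habs a (mem a (by simp)) za hza
    obtain ⟨nb, qb⟩ := habs b (mem b (by simp)) zb hzb
    obtain ⟨nc, qc⟩ := habs c (mem c (by simp)) zc hzc
    obtain ⟨nd, qd⟩ := habs d (mem d (by simp)) zd hzd
    rw [hXeq, List.sum_toFinset _ hnd] at e1 e2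
    simp only [List.map_cons, List.map_nil, List.sum_cons, List.sum_nil, add_zero, hε, one_mul, qa, qb, qc, qd,
      Int.cast_one, mul_one] at e1 e2
    refine ⟨r a, r b, r c, r d, t, hr a (mem a (by simp)), hr b (mem b (by simp)), hr c (mem c (by simp)),
      hr d (mem d (by simp)), ht, ⟨?_, ?_, ?_, ?_⟩, htlt, ⟨?_, ?_, ?_, ?_⟩, by rw [e1]; ring,
      by linear_combination e2⟩
    · rw [na]; exact hlt a (mem a (by simp))
    · rw [nb]; exact hlt b (mem b (by simp))
    · rw [nc]; exact hlt c (mem c (by simp))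
    · rw [nd]; exact hlt d (mem d (by simp))
    · rw [na]; exact h4 a (mem a (by simp))
    · rw [nb]; exact h4 b (mem b (by simp))
    · rw [nc]; exact h4 c (mem c (by simp))
    · rw [nd]; exact h4 d (mem d (by simp))
  have ten : ∀ r : ℤ, r.natAbs < 10 → (r - 10) % 4 = 0 → r ∈ [(2 : ℤ), -2, 6, -6] := by
    intro r h1 h2
    simp only [List.mem_cons, List.not_mem_nil, or_false]
    omega
  have signs : ∀ χ ∈ S.X, (sd S χ = -10 → S.εX χ = -1 ∧ dg χ = 10) ∧
      (sd S χ = 12 → S.εX χ = 1 ∧ dg χ = 12) ∧ (sd S χ = 45 → S.εX χ = 1 ∧ dg χ = 45) := by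
    intro χ hχ
    simp only [sd]
    rcases S.sign_X χ hχ with e | e <;> rw [e] <;>
      refine ⟨fun hh => ?_, fun hh => ?_, fun hh => ?_⟩ <;> omega
  obtain ⟨θ, hθ⟩ : S.Y.Nonempty := Finset.card_pos.1 (by rw [S.card_Y]; norm_num)
  have caseA : ∀ u : G, orderOf u = 2 → ∀ a b c d : IrrCharacter G,
      [a, b, c, d].Nodup → S.X = [a, b, c, d].toFinset → sd S a = -10 → sd S b = -10 → sd S c = -10 →
      sd S d = 45 → S.D = 16 → S.ε = 1 →
        ∃ ra rb rc : ℤ, (a : G → ℂ) u = ra ∧ (b : G → ℂ) u = rb ∧ (c : G → ℂ) u = rc ∧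
          (d : G → ℂ) u = ((-3 : ℤ) : ℂ) ∧ (∀ θ ∈ S.Y, (θ : G → ℂ) u = 0) ∧
          ra + rb + rc = -2 ∧ ra * ra + rb * rb + rc * rc = 12 := by
    intro u hu a b c d hnd hXeq ha hb hc hd hD hε
    obtain ⟨ra, rb, rc, rd, t, va, vb, vc, vd, vt, ⟨la, lb, lc, ld⟩, lt, ⟨fa, fb, fc, fd⟩, e1, e2⟩ :=
      main u hu a b c d hnd hXeq _ _ _ _ ha hb hc hd hε θ hθ
    have mem : ∀ χ ∈ [a, b, c, d], χ ∈ S.X := fun χ hχ => by rw [hXeq]; exact List.mem_toFinset.2 hχ
    rw [((signs a (mem a (by simp))).1 ha).1, ((signs b (mem b (by simp))).1 hb).1,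
      ((signs c (mem c (by simp))).1 hc).1, ((signs d (mem d (by simp))).2.2 hd).1] at e1
    rw [hD] at e2 lt
    norm_num at e2 la lb lc ld fa fb fc fd
    have hmd : rd ∈ (List.range 89).map (fun (n : ℕ) => (n : ℤ) - 44) := by
      refine List.mem_map.2 ⟨(rd + 44).toNat, List.mem_range.2 (by omega), by omega⟩
    have et : t = 1 - ra - rb - rc + rd := by omega
    subst et
    obtain ⟨k1, k2, k3⟩ := values_A ra (ten ra la (by omega)) rb (ten rb lb (by omega)) rc
      (ten rc lc (by omega)) rd hmd (by omega) lt (by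
        suffices hh : ((720 - 72 * (ra * ra + rb * rb + rc * rc) + 16 * (rd * rd) -
          45 * ((1 - ra - rb - rc + rd) * (1 - ra - rb - rc + rd)) : ℤ) : ℂ) = 0 by exact_mod_cast hh
        push_cast at e2 ⊢
        linear_combination 720 * e2)
    refine ⟨ra, rb, rc, va, vb, vc, by rw [vd, k1], fun ψ hψ => ?_, by omega, k3⟩
    rw [S.regular_Y ψ hψ θ hθ u (by rw [hu]; norm_num), vt, k2, Int.cast_zero]
  refine ⟨fun χ h1 h11 h5 => ?_, caseA⟩
  obtain ⟨a, b, c, d, hnd, hXeq, hcase⟩ := eleven_cases h S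
  have mem : ∀ χ ∈ [a, b, c, d], χ ∈ S.X := fun χ hχ => by rw [hXeq]; exact List.mem_toFinset.2 hχ
  have hin : χ ∈ S.X ∨ χ ∈ S.Y := by
    by_contra hno
    push Not at hno
    exact h11 (eleven_outside hP hC S χ h1 hno.1 hno.2)
  rcases hcase with ⟨ha, hb, hc, hd, hε, hD⟩ | ⟨ha, hb, hc, hd, hε, hD⟩
  · rcases hin with hX | hY
    · rw [hXeq] at hX
      simp only [List.mem_toFinset, List.mem_cons, List.not_mem_nil, or_false] at hX
      rcases hX with rfl | rfl | rfl | rfl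
      · exact absurd (by rw [((signs χ (mem χ (by simp))).1 ha).2]; norm_num) h5
      · exact absurd (by rw [((signs χ (mem χ (by simp))).1 hb).2]; norm_num) h5
      · exact absurd (by rw [((signs χ (mem χ (by simp))).1 hc).2]; norm_num) h5
      · exact absurd (by rw [((signs χ (mem χ (by simp))).2.2 hd).2]; norm_num) h5
    · refine ⟨Or.inr ((show dg χ = S.D from S.degree_Y χ hY).trans hD), fun u hu => ?_⟩
      obtain ⟨_, _, _, _, _, _, _, hz, _⟩ := caseA u hu a b c d hnd hXeq ha hb hc hd hD hε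
      exact hz χ hY
  · have hb2 : ∀ u : G, orderOf u = 2 → (c : G → ℂ) u = 0 ∧ (d : G → ℂ) u = 0 := by
      intro u hu
      obtain ⟨ra, rb, rc, rd, t, va, vb, vc, vd, vt, ⟨la, lb, lc, ld⟩, lt, ⟨fa, fb, fc, fd⟩, e1, e2⟩ :=
        main u hu a b c d hnd hXeq _ _ _ _ ha hb hc hd hε θ hθ
      rw [((signs a (mem a (by simp))).1 ha).1, ((signs b (mem b (by simp))).1 hb).1,
        ((signs c (mem c (by simp))).2.1 hc).1, ((signs d (mem d (by simp))).2.1 hd).1] at e1
      rw [hD] at e2 lt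
      norm_num at e2 la lb lc ld fa fb fc fd
      have twelve : ∀ r : ℤ, r.natAbs < 12 → r % 4 = 0 → r ∈ [(0 : ℤ), 4, -4, 8, -8] := by
        intro r h1 h2
        simp only [List.mem_cons, List.not_mem_nil, or_false]
        omega
      have et : t = 1 - ra - rb + rc + rd := by omega
      subst et
      obtain ⟨k1, k2⟩ := values_B ra (ten ra la (by omega)) rb (ten rb lb (by omega)) rc
        (twelve rc lc (by omega)) rd (twelve rd ld (by omega)) lt (by
          suffices hh : ((60 - 6 * (ra * ra + rb * rb) + 5 * (rc * rc + rd * rd) -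
            12 * ((1 - ra - rb + rc + rd) * (1 - ra - rb + rc + rd)) : ℤ) : ℂ) = 0 by exact_mod_cast hh
          push_cast at e2 ⊢
          linear_combination 60 * e2)
      exact ⟨by rw [vc, k1, Int.cast_zero], by rw [vd, k2, Int.cast_zero]⟩
    rcases hin with hX | hY
    · rw [hXeq] at hX
      simp only [List.mem_toFinset, List.mem_cons, List.not_mem_nil, or_false] at hX
      rcases hX with rfl | rfl | rfl | rfl
      · exact absurd (by rw [((signs χ (mem χ (by simp))).1 ha).2]; norm_num) h5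
      · exact absurd (by rw [((signs χ (mem χ (by simp))).1 hb).2]; norm_num) h5
      · exact ⟨Or.inl ((signs χ (mem χ (by simp))).2.1 hc).2, fun u hu => (hb2 u hu).1⟩
      · exact ⟨Or.inl ((signs χ (mem χ (by simp))).2.1 hd).2, fun u hu => (hb2 u hu).2⟩
    · exact absurd (by rw [show dg χ = S.D from S.degree_Y χ hY, hD]) h5

end CfsgLib.Char.MEleven.Order
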