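import Cfsg.Agent.Lib.Perm.Small.CentralizerTest
import Cfsg.Agent.Lib.Char.ClassMul

/-!
# Simple groups of order 7920: general character tools
-/

set_option autoImplicit false
set_option linter.all false

open Cfsg CfsgLib.Perm.PrimeBlock CfsgLib.Block Finset
open scoped ComplexConjugate

namespace CfsgLib.Char.MEleven.Order

universe u

variable {G : Type u} [Group G] [Finite G]

/-- The degree. -/
noncomputable def dg (χ : IrrCharacter G) : ℕ := charDegree (χ : G → ℂ)

theorem val_one (χ : IrrCharacter G) : (χ : G → ℂ) 1 = (dg χ : ℂ) := (charDegree_eq χ).1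

theorem dg_pos (χ : IrrCharacter G) : 0 < dg χ := Nat.pos_of_ne_zero (charDegree_eq χ).2

theorem dg_one : dg (CfsgLib.Block.oneChar G) = 1 := by
  simp [dg, charDegree, CfsgLib.Block.oneChar]

/-- A character constant on the non-trivial powers of an element of prime order. -/
theorem dvd_deg_sub {χ : G → ℂ} (hχ : IsCharacter G χ) {p : ℕ} (hp : p.Prime) {x : G}
    (hx : orderOf x = p) {c d : ℤ} (hc : ∀ j : ℕ, ¬ p ∣ j → χ (x ^ j) = (c : ℂ))
    (hd : χ 1 = (d : ℂ)) : (p : ℤ) ∣ d - c := by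
  classical
  obtain ⟨m, ρ, rfl⟩ := hχ
  obtain ⟨b, μ, hμ, hb, hpow⟩ := CfsgLib.Char.exists_eigen_data ρ x
  rw [hx] at hμ
  have hgeo : ∀ i, ∑ j ∈ range p, μ i ^ j = if μ i = 1 then (p : ℂ) else 0 := by
    intro i
    split_ifs with he
    · simp [he]
    · rw [geom_sum_eq he, hμ, sub_self, zero_div]
  have h1 : ∑ j ∈ range p, ρ.character (x ^ j) = (p : ℂ) * ((univ.filter fun i => μ i = 1).card : ℂ) := by
    simp only [hpow]
    rw [sum_comm, sum_congr rfl (fun i _ => hgeo i), ← sum_filter, sum_const, nsmul_eq_mul]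
    ring
  rw [range_eq_Ico, sum_eq_sum_Ico_succ_bot hp.pos, pow_zero, hd,
    sum_congr rfl (g := fun _ => (c : ℂ)) fun j hj => hc j (by
      rw [Finset.mem_Ico] at hj; exact Nat.not_dvd_of_pos_of_lt (by omega) hj.2),
    sum_const, Nat.card_Ico, nsmul_eq_mul, Nat.cast_sub hp.one_lt.le] at h1
  have h2 : d + ((p : ℤ) - 1) * c = (p : ℤ) * ((univ.filter fun i => μ i = 1).card : ℤ) := by
    push_cast at h1
    exact_mod_cast h1
  exact ⟨((univ.filter fun i => μ i = 1).card : ℤ) - c, by linear_combination h2⟩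

/-- A character vanishing on the non-trivial elements of a subgroup of prime order. -/
theorem dvd_dg_of_zero {p : ℕ} [hp : Fact p.Prime] {P : Subgroup G} (hP : Nat.card P = p)
    (χ : IrrCharacter G) (h0 : ∀ x ∈ P, x ≠ 1 → (χ : G → ℂ) x = 0) : p ∣ dg χ := by
  obtain ⟨x', hx'⟩ := exists_prime_orderOf_dvd_card' (G := P) p (by rw [hP])
  have hx : orderOf (x' : G) = p := by rw [Subgroup.orderOf_coe, hx']
  have h := dvd_deg_sub (CfsgLib.Char.isCharacter_irr χ) hp.out hx (c := 0) (d := (dg χ : ℤ))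
    (fun j hj => by
      rw [h0 _ (pow_mem x'.2 j) (fun h => hj (hx ▸ orderOf_dvd_of_pow_eq_one h))]; simp)
    (by rw [val_one]; simp)
  rw [sub_zero] at h
  exact_mod_cast h

/-- The squares of the degrees. -/
theorem sum_dg_sq [Fintype (IrrCharacter G)] : ∑ χ : IrrCharacter G, dg χ ^ 2 = Nat.card G := by
  have h := CfsgLib.Char.sum_degree_sq (G := G)
  simp only [val_one] at h
  exact_mod_cast h

/-- The class multiplication formula, cleared of denominators. -/
theorem class_mul [Fintype (IrrCharacter G)] (u v w : G) :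
    (CfsgLib.Char.classConst u v w : ℂ) * (Nat.card (Subgroup.centralizer ({u} : Set G)) : ℂ) *
      (Nat.card (Subgroup.centralizer ({v} : Set G)) : ℂ) =
    (Nat.card G : ℂ) * ∑ χ : IrrCharacter G,
      (χ : G → ℂ) u * (χ : G → ℂ) v * conj ((χ : G → ℂ) w) / (dg χ : ℂ) := by
  rw [CfsgLib.Char.classConst_formula, CfsgLib.Char.card_isConj, CfsgLib.Char.card_isConj,
    finsum_eq_sum_of_fintype]
  simp only [val_one]
  have hu : ((Subgroup.centralizer ({u} : Set G)).index : ℂ) *
      (Nat.card (Subgroup.centralizer ({u} : Set G)) : ℂ) = (Nat.card G : ℂ) := by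
    rw [← Nat.cast_mul, Subgroup.index_mul_card]
  have hv : ((Subgroup.centralizer ({v} : Set G)).index : ℂ) *
      (Nat.card (Subgroup.centralizer ({v} : Set G)) : ℂ) = (Nat.card G : ℂ) := by
    rw [← Nat.cast_mul, Subgroup.index_mul_card]
  have hg : (Nat.card G : ℂ) ≠ 0 := Nat.cast_ne_zero.2 Nat.card_pos.ne'
  generalize ∑ χ : IrrCharacter G,
      (χ : G → ℂ) u * (χ : G → ℂ) v * conj ((χ : G → ℂ) w) / (dg χ : ℂ) = T
  field_simp
  linear_combination
    (T * ((Subgroup.centralizer ({v} : Set G)).index : ℂ) *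
      (Nat.card (Subgroup.centralizer ({v} : Set G)) : ℂ)) * hu + ((Nat.card G : ℂ) * T) * hv

/-- The value at an involution. -/
theorem value_invol [IsSimpleGroup G] (hG : ¬ IsMulCommutative G) (χ : IrrCharacter G)
    (hne : χ ≠ CfsgLib.Block.oneChar G) {u : G} (hu : orderOf u = 2) :
    ∃ r : ℤ, (χ : G → ℂ) u = r ∧ r.natAbs < dg χ ∧ (r - (dg χ : ℤ)) % 4 = 0 :=
  involution_value hG χ (fun h => hne (Subtype.ext h)) hu

/-- An element of a pair counted by `classConst u u x` inverts `x`. -/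
theorem pair_inverts {u x a b : G} (hu : orderOf u = 2) (ha : IsConj u a) (hb : IsConj u b)
    (hab : a * b = x) : a * a = 1 ∧ b * b = 1 ∧ a * x * a⁻¹ = x⁻¹ ∧ orderOf a = 2 := by
  have hsq : ∀ a : G, IsConj u a → a * a = 1 ∧ orderOf a = 2 := by
    intro a ha
    obtain ⟨g, rfl⟩ := isConj_iff.1 ha
    have ho : orderOf (g * u * g⁻¹) = 2 := ((MulAut.conj g).orderOf_eq u).trans hu
    exact ⟨by rw [← pow_two, ← ho, pow_orderOf_eq_one], ho⟩
  obtain ⟨h1, h2⟩ := hsq a ha
  obtain ⟨h3, -⟩ := hsq b hb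
  refine ⟨h1, h3, ?_, h2⟩
  have hai : a⁻¹ = a := inv_eq_of_mul_eq_one_left h1
  have hbi : b⁻¹ = b := inv_eq_of_mul_eq_one_left h3
  rw [← hab, mul_inv_rev, hai, hbi, ← mul_assoc, h1, one_mul]

/-- The Sylow subgroups of prime order, by conjugation. -/
theorem centralizer_of_order {p : ℕ} [hp : Fact p.Prime] {P : Sylow p G}
    (hP : Nat.card (P : Subgroup G) = p) {x : G} (hx : orderOf x = p) :
    Nat.card (Subgroup.centralizer ({x} : Set G)) =
      Nat.card (Subgroup.centralizer ((P : Subgroup G) : Set G)) := by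
  obtain ⟨Q, hQ⟩ := (IsPGroup.of_card (p := p) (n := 1) (G := Subgroup.zpowers x)
    (by rw [Nat.card_zpowers, hx, pow_one])).exists_le_sylow
  obtain ⟨g, hg⟩ := MulAction.exists_smul_eq G Q P
  have hmem : g * x * g⁻¹ ∈ (P : Subgroup G) := by
    rw [← hg, Sylow.coe_subgroup_smul]
    exact ⟨_, hQ (Subgroup.mem_zpowers _), rfl⟩
  have hgen : Subgroup.zpowers (g * x * g⁻¹) = (P : Subgroup G) :=
    Subgroup.eq_of_le_of_card_ge (Subgroup.zpowers_le.2 hmem) (by
      rw [hP, Nat.card_zpowers]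
      exact le_of_eq (hx.symm.trans ((MulAut.conj g).orderOf_eq x).symm))
  have h1 : Nat.card (Subgroup.centralizer ({x} : Set G)) =
      Nat.card (Subgroup.centralizer ({g * x * g⁻¹} : Set G)) := by
    have hi : (Subgroup.centralizer ({x} : Set G)).index =
        (Subgroup.centralizer ({g * x * g⁻¹} : Set G)).index := by
      rw [← CfsgLib.Char.card_isConj, ← CfsgLib.Char.card_isConj]
      have hc : IsConj x (g * x * g⁻¹) := isConj_iff.2 ⟨g, rfl⟩
      exact Nat.card_congr (Equiv.subtypeEquivRight fun y => ⟨fun h => hc.symm.trans h, hc.trans⟩)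
    have e1 := Subgroup.card_mul_index (Subgroup.centralizer ({x} : Set G))
    have e2 := Subgroup.card_mul_index (Subgroup.centralizer ({g * x * g⁻¹} : Set G))
    rw [hi, ← e2] at e1
    exact Nat.eq_of_mul_eq_mul_right (Nat.pos_of_ne_zero Subgroup.index_ne_zero_of_finite) e1
  rw [h1, ← hgen]
  congr 2
  ext y
  rw [Subgroup.mem_centralizer_singleton_iff, Subgroup.mem_centralizer_iff]
  constructor
  · rintro h w ⟨k, rfl⟩
    exact ((show Commute (g * x * g⁻¹) y from h.symm).zpow_left k).eq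
  · intro h
    exact (h _ (Subgroup.mem_zpowers _)).symm

end CfsgLib.Char.MEleven.Order
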