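import Cfsg.Agent.Lib.Char.LThreeThree.GLRecog

/-!
# Groups of order 48 with a central involution and thirteen involutions
-/

set_option autoImplicit false
set_option linter.all false

open Subgroup

namespace CfsgLib.Char.MEleven.Order

universe u

variable {Q : Type u} [Group Q] [Finite Q] {z : Q}

/-- The involutions do not lie in a subgroup of order 16. -/
theorem sixteen_contra (hz : orderOf z = 2)
    (hcount : Nat.card {a : Q // orderOf a = 2 ∧ a ≠ z} = 12) {R : Subgroup Q} (hR : Nat.card R = 16)
    (hall : ∀ a : Q, orderOf a = 2 → a ∈ R) : False := by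
  classical
  haveI := Fintype.ofFinite Q
  set A : Finset Q := Finset.univ.filter (fun a => a * a = 1) with hA
  have hAmem : ∀ a, a ∈ A ↔ a * a = 1 := fun a => by simp [hA]
  have hord : ∀ a : Q, a * a = 1 ↔ a = 1 ∨ orderOf a = 2 := by
    intro a
    refine ⟨fun h => ?_, fun h => ?_⟩
    · rcases eq_or_ne a 1 with e | e
      · exact Or.inl e
      · exact Or.inr (orderOf_eq_prime (by rw [pow_two, h]) e)
    · rcases h with rfl | h
      · rw [one_mul]
      · rw [← pow_two, ← h, pow_orderOf_eq_one]
  have hz1 : z ≠ 1 := fun e => by rw [e, orderOf_one] at hz; norm_num at hz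
  have h14 : A.card = 14 := by
    rw [Nat.card_eq_fintype_card, Fintype.card_subtype] at hcount
    have e : A = insert 1 (insert z (Finset.univ.filter fun a => orderOf a = 2 ∧ a ≠ z)) := by
      ext a
      simp only [hAmem, hord, Finset.mem_insert, Finset.mem_filter, Finset.mem_univ, true_and]
      constructor
      · rintro (h | h)
        · exact Or.inl h
        · by_cases e : a = z
          · exact Or.inr (Or.inl e)
          · exact Or.inr (Or.inr ⟨h, e⟩)
      · rintro (h | h | h)
        · exact Or.inl h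
        · exact Or.inr (h ▸ hz)
        · exact Or.inr h.1
    rw [e, Finset.card_insert_of_notMem, Finset.card_insert_of_notMem, hcount]
    · simp
    · simp [hz1.symm]
  set Rf : Finset Q := Finset.univ.filter (fun a => a ∈ R) with hRf
  have hRc : Rf.card = 16 := by
    rw [← hR, Nat.card_eq_fintype_card, Fintype.card_subtype]
  have hAR : A ⊆ Rf := by
    intro a ha
    simp only [hRf, Finset.mem_filter, Finset.mem_univ, true_and]
    rcases (hord a).1 ((hAmem a).1 ha) with rfl | h
    · exact one_mem _
    · exact hall a h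
  have hcomm : ∀ x ∈ A, ∀ r ∈ Rf, r * x = x * r := by
    intro x hx
    have hxR : x ∈ R := by simpa [hRf] using hAR hx
    set A' : Finset Q := Rf.filter (fun a => a * x ∈ A) with hA'
    have h1 : 14 ≤ A'.card := by
      rw [← h14, ← Finset.card_image_of_injective A (mul_left_injective x)]
      refine Finset.card_le_card fun b hb => ?_
      obtain ⟨a, ha, rfl⟩ := Finset.mem_image.1 hb
      refine Finset.mem_filter.2 ⟨?_, ?_⟩
      · have haR : a ∈ R := by simpa [hRf] using hAR ha
        simpa [hRf] using mul_mem haR hxR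
      · show a * x * x ∈ A
        rw [mul_assoc, (hAmem x).1 hx, mul_one]
        exact ha
    have h2 : 12 ≤ (A ∩ A').card := by
      have := Finset.card_union_add_card_inter A A'
      have h3 : (A ∪ A').card ≤ 16 := hRc ▸ Finset.card_le_card
        (Finset.union_subset hAR (Finset.filter_subset _ _))
      omega
    set Cx : Subgroup Q := R ⊓ centralizer ({x} : Set Q) with hCx
    have hsub : ∀ a ∈ A ∩ A', a ∈ Cx := by
      intro a ha
      obtain ⟨ha, ha'⟩ := Finset.mem_inter.1 ha
      obtain ⟨haR, hax⟩ := Finset.mem_filter.1 ha'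
      refine mem_inf.2 ⟨by simpa [hRf] using haR, mem_centralizer_singleton_iff.2 ?_⟩
      have e1 := inv_eq_of_mul_eq_one_left ((hAmem a).1 ha)
      have e2 := inv_eq_of_mul_eq_one_left ((hAmem x).1 hx)
      have e3 := inv_eq_of_mul_eq_one_left ((hAmem _).1 hax)
      rw [mul_inv_rev, e1, e2] at e3
      exact e3.symm
    have h3 : 12 ≤ Nat.card Cx := by
      refine h2.trans ?_
      rw [Nat.card_eq_fintype_card, Fintype.card_subtype]
      exact Finset.card_le_card fun a ha => by simpa using hsub a ha
    have h4 : Nat.card Cx ∣ 16 := hR ▸ card_dvd_of_le inf_le_left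
    have h16 : Nat.card Cx = 16 := by
      have key : ∀ n < 17, n ∣ 16 → 12 ≤ n → n = 16 := by decide
      exact key _ (Nat.lt_succ_of_le (Nat.le_of_dvd (by norm_num) h4)) h4 h3
    intro r hr
    have hCxR : Cx = R := eq_of_le_of_card_ge inf_le_left (by rw [h16, hR])
    have : r ∈ Cx := hCxR.symm ▸ (by simpa [hRf] using hr)
    exact mem_centralizer_singleton_iff.1 (mem_inf.1 this).2
  let H : Subgroup Q :=
    { carrier := {a | a * a = 1}
      one_mem' := one_mul 1
      mul_mem' := fun {a b} ha hb => by
        have e : b * a = a * b := hcomm a ((hAmem a).2 ha) b (hAR ((hAmem b).2 hb))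
        show a * b * (a * b) = 1
        rw [mul_assoc, ← mul_assoc b, e, mul_assoc a b, hb, mul_one, ha]
      inv_mem' := fun {a} ha => by
        show a⁻¹ * a⁻¹ = 1
        rw [← mul_inv_rev, show a * a = 1 from ha, inv_one] }
  have hH : Nat.card H = 14 := by
    rw [← h14, Nat.card_eq_fintype_card, Fintype.card_subtype]
    congr 1
  have hHR : H ≤ R := fun a ha => by simpa [hRf] using hAR ((hAmem a).2 ha)
  have := card_dvd_of_le hHR
  rw [hH, hR] at this
  norm_num at this

/-- A Sylow two-subgroup of a group in which an element `x` of order three with index 16 is central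
contains all involutions. -/
theorem two_part_normal {D : Subgroup Q} {k : ℕ} {x : Q} (hx : orderOf x = 3) (hxD : x ∈ D)
    (hD : Nat.card D = 2 ^ k * 3) (hc : ∀ d ∈ D, d * x = x * d) :
    ∃ R : Subgroup Q, R ≤ D ∧ Nat.card R = 2 ^ k ∧ ∀ a ∈ D, a ^ 2 = 1 → a ∈ R := by
  classical
  haveI : Fact (Nat.Prime 2) := ⟨Nat.prime_two⟩
  obtain ⟨S⟩ : Nonempty (Sylow 2 D) := inferInstance
  have hS : Nat.card (S : Subgroup D) = 2 ^ k := by
    rw [S.card_eq_multiplicity, hD, Nat.factorization_mul (by positivity) (by norm_num),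
      Nat.prime_two.factorization_pow, Nat.prime_three.factorization]
    simp
  set X : Subgroup D := zpowers (⟨x, hxD⟩ : D) with hX
  have hXc : Nat.card X = 3 := by
    rw [hX, Nat.card_zpowers, Subgroup.orderOf_mk, hx]
  have hXle : X ≤ normalizer ((S : Subgroup D) : Set D) := by
    refine le_trans ?_ (centralizer_le_normalizer _)
    rw [hX, zpowers_le, mem_centralizer_iff]
    exact fun s _ => Subtype.ext (hc s s.2)
  have hSn : (S : Subgroup D).Normal := by
    refine normalizer_eq_top_iff.1 (eq_top_of_card_eq _ ?_)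
    refine le_antisymm (Nat.le_of_dvd Nat.card_pos (card_subgroup_dvd_card _)) ?_
    refine Nat.le_of_dvd Nat.card_pos ?_
    rw [hD]
    refine Nat.Coprime.mul_dvd_of_dvd_of_dvd (Nat.Coprime.pow_left k (by norm_num)) ?_ ?_
    · exact hS ▸ card_dvd_of_le le_normalizer
    · exact hXc ▸ card_dvd_of_le hXle
  refine ⟨(S : Subgroup D).map D.subtype, map_subtype_le _, ?_, fun a ha ha2 => ?_⟩
  · rw [card_map_of_injective D.subtype_injective, hS]
  refine ⟨⟨a, ha⟩, ?_, rfl⟩
  have hp : IsPGroup 2 (zpowers (⟨a, ha⟩ : D)) := by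
    have h1 : orderOf (⟨a, ha⟩ : D) ∣ 2 ^ 1 := orderOf_dvd_of_pow_eq_one (Subtype.ext ha2)
    obtain ⟨j, -, hj⟩ := (Nat.dvd_prime_pow Nat.prime_two).1 h1
    exact IsPGroup.of_card (n := j) (by rw [Nat.card_zpowers, hj])
  obtain ⟨T, hT⟩ := hp.exists_le_sylow
  haveI := hSn
  haveI : Unique (Sylow 2 D) := S.unique_of_normal hSn
  obtain rfl := Subsingleton.elim T S
  exact hT (mem_zpowers _)

/-- If a subgroup of order three is normal, its centralizer has a single involution. -/
theorem normal_three (hQ : Nat.card Q = 48) (hz : orderOf z = 2) (hzc : ∀ w : Q, w * z = z * w)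
    (hcount : Nat.card {a : Q // orderOf a = 2 ∧ a ≠ z} = 12) {x : Q} (hx : orderOf x = 3)
    (hn : ∀ g : Q, g * x * g⁻¹ ∈ zpowers x) :
    Nat.card (centralizer ({x} : Set Q)) = 24 ∧
      ∀ a : Q, orderOf a = 2 → a * x = x * a → a = z := by
  classical
  haveI := Fintype.ofFinite Q
  set D : Subgroup Q := centralizer ({x} : Set Q) with hD
  have hsub : ∀ g : Q, g * x * g⁻¹ = x ∨ g * x * g⁻¹ = x⁻¹ := by
    intro g
    obtain ⟨k, hk⟩ := (isOfFinOrder_of_finite x).mem_powers_iff_mem_zpowers.2 (hn g)
    have hk' : x ^ k = g * x * g⁻¹ := hk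
    rcases (show k % 3 = 0 ∨ k % 3 = 1 ∨ k % 3 = 2 by omega) with e | e | e <;>
      rw [← pow_mod_orderOf, hx, e] at hk'
    · rw [pow_zero, eq_comm, conj_eq_one_iff] at hk'; rw [hk', orderOf_one] at hx; norm_num at hx
    · left; rw [← hk', pow_one]
    · right; rw [← hk']; refine eq_inv_of_mul_eq_one_left ?_
      rw [← pow_succ, show 2 + 1 = orderOf x from hx.symm, pow_orderOf_eq_one]
  have hmemD : ∀ g : Q, g ∈ D ↔ g * x * g⁻¹ = x := fun g => by
    rw [hD, mem_centralizer_singleton_iff, mul_inv_eq_iff_eq_mul]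
  have hxD : x ∈ D := (hmemD x).2 (by group)
  have hcD : ∀ d ∈ D, d * x = x * d := fun d hd => mem_centralizer_singleton_iff.1 hd
  have hzD : z ∈ D := (hmemD z).2 (by rw [← hzc x]; group)
  have h48 : 48 ≤ 2 * Nat.card D := by
    by_cases hall : ∀ g : Q, g ∈ D
    · have e : D = ⊤ := (eq_top_iff' D).2 hall
      rw [e, card_top, hQ]; norm_num
    push Not at hall
    obtain ⟨s, hs⟩ := hall
    have hidx : D.index ≤ 2 := by
      rw [Subgroup.index_eq_card]
      calc Nat.card (Q ⧸ D) ≤ Nat.card Bool := by
            refine Nat.card_le_card_of_surjective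
              (fun b : Bool => if b then ((1 : Q) : Q ⧸ D) else ((s⁻¹ : Q) : Q ⧸ D)) ?_
            intro q
            obtain ⟨g, rfl⟩ := QuotientGroup.mk_surjective q
            by_cases hg : g ∈ D
            · exact ⟨true, QuotientGroup.eq.2 (by simpa using hg)⟩
            · refine ⟨false, QuotientGroup.eq.2 ((hmemD _).2 ?_)⟩
              have e1 := (hsub s).resolve_left fun e => hs ((hmemD s).2 e)
              have e2 := (hsub g).resolve_left fun e => hg ((hmemD g).2 e)
              calc s⁻¹⁻¹ * g * x * (s⁻¹⁻¹ * g)⁻¹ = s * (g * x * g⁻¹) * s⁻¹ := by group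
                _ = (s * x * s⁻¹)⁻¹ := by rw [e2]; group
                _ = x := by rw [e1, inv_inv]
        _ = 2 := by simp
    have := D.card_mul_index
    rw [hQ] at this
    nlinarith
  have hdvd : Nat.card D ∣ 48 := hQ ▸ card_subgroup_dvd_card _
  have h24 : Nat.card D = 24 := by
    have key : ∀ n < 49, n ∣ 48 → 48 ≤ 2 * n → n = 24 ∨ n = 48 := by decide
    rcases key _ (Nat.lt_succ_of_le (Nat.le_of_dvd (by norm_num) hdvd)) hdvd h48 with e | e
    · exact e
    exfalso
    obtain ⟨R, -, hR, hall⟩ := two_part_normal (k := 4) hx hxD (by rw [e]; norm_num) hcD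
    refine sixteen_contra hz hcount (by rw [hR]; norm_num) fun a ha => hall a ?_ (by rw [← ha, pow_orderOf_eq_one])
    have eD : D = ⊤ := eq_top_of_card_eq _ (by rw [e, hQ])
    rw [eD]; exact mem_top a
  refine ⟨h24, ?_⟩
  obtain ⟨R, hRD, hR, hall⟩ := two_part_normal (k := 3) hx hxD (by rw [h24]; norm_num) hcD
  set Af : Finset Q := Finset.univ.filter (fun a => orderOf a = 2 ∧ a ∈ D) with hAf
  set Of : Finset Q := Finset.univ.filter (fun a => orderOf a = 2 ∧ a ∉ D) with hOf
  have h13 : Af.card + Of.card = 13 := by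
    rw [Nat.card_eq_fintype_card, Fintype.card_subtype] at hcount
    have e : Finset.univ.filter (fun a : Q => orderOf a = 2) =
        insert z (Finset.univ.filter fun a => orderOf a = 2 ∧ a ≠ z) := by
      ext a
      simp only [Finset.mem_filter, Finset.mem_univ, true_and, Finset.mem_insert]
      constructor
      · intro h
        by_cases e : a = z
        · exact Or.inl e
        · exact Or.inr ⟨h, e⟩
      · rintro (rfl | h)
        · exact hz
        · exact h.1
    have e2 := congrArg Finset.card e
    rw [Finset.card_insert_of_notMem (by simp), hcount,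
      ← Finset.card_filter_add_card_filter_not (s := Finset.univ.filter fun a : Q => orderOf a = 2)
        (fun a => a ∈ D), Finset.filter_filter, Finset.filter_filter, ← hAf, ← hOf] at e2
    omega
  have hinvx : ∀ s : Q, s ∉ D → s * x = x⁻¹ * s := fun s hs =>
    mul_inv_eq_iff_eq_mul.1 ((hsub s).resolve_left fun e => hs ((hmemD s).2 e))
  have hO3 : 3 ∣ Of.card := by
    refine ⟨Nat.card ((fun g : Q => (g : Q ⧸ zpowers x)) '' (Of : Set Q)), ?_⟩
    have hst : (QuotientGroup.mk ⁻¹' ((fun g : Q => (g : Q ⧸ zpowers x)) '' (Of : Set Q))) = (Of : Set Q) := by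
      refine subset_antisymm ?_ (Set.subset_preimage_image _ _)
      rintro g ⟨s, hs, e⟩
      simp only [Finset.mem_coe, hOf, Finset.mem_filter, Finset.mem_univ, true_and] at hs ⊢
      have hsg : s⁻¹ * g ∈ zpowers x := QuotientGroup.eq.1 e
      obtain ⟨k, hk⟩ := (isOfFinOrder_of_finite x).mem_powers_iff_mem_zpowers.2 hsg
      have hg : g = s * x ^ k := by rw [show x ^ k = s⁻¹ * g from hk]; group
      have hgD : g ∉ D := fun h => hs.2 (by
        have h2 := D.mul_mem h (D.inv_mem (D.pow_mem hxD k))
        rwa [hg, mul_assoc, mul_inv_cancel, mul_one] at h2)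
      have hs2 : s * s = 1 := by rw [← pow_two, ← hs.1, pow_orderOf_eq_one]
      have hsc : SemiconjBy s x x⁻¹ := hinvx s hs.2
      refine ⟨orderOf_eq_prime ?_ fun e1 => hgD (e1 ▸ D.one_mem), hgD⟩
      rw [pow_two, hg, mul_assoc, ← mul_assoc (x ^ k), ← mul_assoc s,]
      have hk2 : s * x ^ k = (x⁻¹) ^ k * s := hsc.pow_right k
      calc s * (x ^ k * s) * x ^ k = (s * x ^ k) * (s * x ^ k) := by simp [mul_assoc]
        _ = (x⁻¹) ^ k * s * (s * x ^ k) := by rw [← hk2]
        _ = (x⁻¹) ^ k * (s * s) * x ^ k := by simp [mul_assoc]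
        _ = 1 := by rw [hs2, mul_one, inv_pow, inv_mul_cancel]
    have e := Nat.card_congr (QuotientGroup.preimageMkEquivSubgroupProdSet (zpowers x)
      ((fun g : Q => (g : Q ⧸ zpowers x)) '' (Of : Set Q)))
    rw [hst, Nat.card_prod, Nat.card_zpowers, hx, Nat.card_coe_set_eq, Set.ncard_coe_finset] at e
    exact e
  have hAle : Af.card ≤ 7 ∧ Af.card % 2 = 1 := by
    haveI := Fintype.ofFinite R
    set B : Finset R := Finset.univ.filter (fun r : R => r * r = 1) with hB
    have hBc : B.card = Af.card + 1 := by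
      have e : Finset.image (fun r : R => (r : Q)) B = insert 1 Af := by
        ext a
        simp only [Finset.mem_image, hB, hAf, Finset.mem_filter, Finset.mem_univ, true_and,
          Finset.mem_insert]
        constructor
        · rintro ⟨r, hr, rfl⟩
          rcases eq_or_ne (r : Q) 1 with e | e
          · exact Or.inl e
          · exact Or.inr ⟨orderOf_eq_prime (by rw [pow_two]; exact (Subtype.ext_iff.1 hr :)) e, hRD r.2⟩
        · rintro (rfl | ⟨h1, h2⟩)
          · exact ⟨1, one_mul 1, rfl⟩
          · exact ⟨⟨a, hall a h2 (by rw [← h1, pow_orderOf_eq_one])⟩,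
              Subtype.ext (show a * a = 1 by rw [← pow_two, ← h1, pow_orderOf_eq_one]), rfl⟩
      rw [← Finset.card_image_of_injective B Subtype.val_injective, e, Finset.card_insert_of_notMem]
      simp [hAf]
    have hRc : Fintype.card R = 8 := by rw [← Nat.card_eq_fintype_card, hR]; norm_num
    have hle : B.card ≤ 8 := hRc ▸ Finset.card_le_univ B
    have hev : (Bᶜ.card : ZMod 2) = 0 := by
      have := Finset.sum_involution (s := Bᶜ) (f := fun _ => (1 : ZMod 2)) (fun r _ => r⁻¹)
        (fun _ _ => by decide) (fun r hr _ e => by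
          refine (Finset.mem_compl.1 hr) ?_
          simp only [hB, Finset.mem_filter, Finset.mem_univ, true_and]
          exact mul_eq_one_iff_eq_inv.2 e.symm)
        (fun r hr => by
          simp only [hB, Finset.mem_compl, Finset.mem_filter, Finset.mem_univ, true_and] at hr ⊢
          intro e; apply hr; rw [← mul_inv_rev, inv_eq_one] at e; exact e)
        (fun r _ => inv_inv r)
      simpa using this
    rw [ZMod.natCast_eq_zero_iff_even] at hev
    obtain ⟨j, hj⟩ := hev
    rw [Finset.card_compl, hRc] at hj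
    omega
  have hone : Af.card = 1 := by
    obtain ⟨hle, hodd⟩ := hAle
    by_contra hne
    have h7 : Af.card = 7 := by
      obtain ⟨j, hj⟩ := hO3
      omega
    have hsq : ∀ r ∈ R, r * r = 1 := by
      have hsubR : insert 1 Af ⊆ Finset.univ.filter (fun a => a ∈ R) := by
        intro a ha
        simp only [hAf, Finset.mem_insert, Finset.mem_filter, Finset.mem_univ, true_and] at ha ⊢
        rcases ha with rfl | ⟨h1, h2⟩
        · exact one_mem _
        · exact hall a h2 (by rw [← h1, pow_orderOf_eq_one])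
      have hRf : (Finset.univ.filter fun a => a ∈ R).card = 8 := by
        rw [← Fintype.card_subtype, ← Nat.card_eq_fintype_card]; exact hR
      have e := Finset.eq_of_subset_of_card_le hsubR (by
        rw [hRf, Finset.card_insert_of_notMem (by simp [hAf]), h7])
      intro r hr
      have : r ∈ insert 1 Af := by rw [e]; simpa using hr
      simp only [hAf, Finset.mem_insert, Finset.mem_filter, Finset.mem_univ, true_and] at this
      rcases this with rfl | ⟨h1, -⟩
      · rw [one_mul]
      · rw [← pow_two, ← h1, pow_orderOf_eq_one]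
    have hab : ∀ a b : R, a * b = b * a := by
      intro a b
      have i1 : (a : Q)⁻¹ = a := inv_eq_of_mul_eq_one_left (hsq _ a.2)
      have i2 : (b : Q)⁻¹ = b := inv_eq_of_mul_eq_one_left (hsq _ b.2)
      have i3 : ((a : Q) * b)⁻¹ = a * b := inv_eq_of_mul_eq_one_left (hsq _ (mul_mem a.2 b.2))
      rw [mul_inv_rev, i1, i2] at i3
      exact Subtype.ext i3.symm
    obtain ⟨s, hs⟩ : Of.Nonempty := Finset.card_pos.1 (by omega)
    simp only [hOf, Finset.mem_filter, Finset.mem_univ, true_and] at hs
    have hs2 : s * s = 1 := by rw [← pow_two, ← hs.1, pow_orderOf_eq_one]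
    have hsc : SemiconjBy s x x⁻¹ := hinvx s hs.2
    have hsD : ∀ d ∈ D, s * d * s ∈ D := by
      intro d hd
      have e0 : s * x * s⁻¹ = x⁻¹ := mul_inv_eq_iff_eq_mul.2 (hinvx s hs.2)
      have hsi : s⁻¹ = s := inv_eq_of_mul_eq_one_left hs2
      refine (hmemD _).2 ?_
      have e1 : d * x⁻¹ * d⁻¹ = x⁻¹ := by
        have := (hmemD d).1 hd
        calc d * x⁻¹ * d⁻¹ = (d * x * d⁻¹)⁻¹ := by group
          _ = x⁻¹ := by rw [this]
      calc s * d * s * x * (s * d * s)⁻¹ = s * (d * (s * x * s⁻¹) * d⁻¹) * s⁻¹ := by group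
        _ = s * x⁻¹ * s⁻¹ := by rw [e0, e1]
        _ = (s * x * s⁻¹)⁻¹ := by group
        _ = x := by rw [e0, inv_inv]
    have hconjR : ∀ r : R, s * r * s ∈ R := fun r => hall _ (hsD _ (hRD r.2)) (by
      rw [pow_two]
      calc s * r * s * (s * r * s) = s * (r * (s * s) * r) * s := by simp [mul_assoc]
        _ = 1 := by rw [hs2, mul_one, hsq _ r.2, mul_one, hs2])
    let f : R →* R :=
      { toFun := fun r => r * ⟨s * r * s, hconjR r⟩
        map_one' := Subtype.ext (by simp [hs2])
        map_mul' := fun a b => by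
          have e : (⟨s * ((a * b : R) : Q) * s, hconjR _⟩ : R) =
              ⟨s * a * s, hconjR a⟩ * ⟨s * b * s, hconjR b⟩ := Subtype.ext (by
            show s * ((a : Q) * b) * s = s * a * s * (s * b * s)
            calc s * ((a : Q) * b) * s = s * a * (s * s) * b * s := by rw [hs2]; simp [mul_assoc]
              _ = _ := by simp [mul_assoc])
          rw [e, mul_assoc, ← mul_assoc b, hab b]
          simp [mul_assoc] }
    set F : Finset R := Finset.univ.filter (fun r : R => s * (r : Q) * s = r) with hF
    have hrange : Nat.card f.range ≤ F.card := by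
      rw [← Fintype.card_subtype, ← Nat.card_eq_fintype_card]
      refine Nat.card_le_card_of_injective (fun q : f.range => (⟨q.1, ?_⟩ : {r : R // s * (r : Q) * s = r})) ?_
      · obtain ⟨r, hr⟩ := q.2
        rw [← hr]
        show s * ((r : Q) * (s * r * s)) * s = (r : Q) * (s * r * s)
        have e := congrArg Subtype.val (hab r ⟨s * r * s, hconjR r⟩)
        calc s * ((r : Q) * (s * r * s)) * s = s * r * s * r * (s * s) := by simp [mul_assoc]
          _ = s * r * s * r := by rw [hs2, mul_one]
          _ = (r : Q) * (s * r * s) := e.symm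
      · intro a b e
        exact Subtype.ext (congrArg Subtype.val e :)
    have hker : Nat.card f.ker ≤ F.card := by
      rw [← Fintype.card_subtype, ← Nat.card_eq_fintype_card]
      refine Nat.card_le_card_of_injective (fun q : f.ker => (⟨q.1, ?_⟩ : {r : R // s * (r : Q) * s = r})) ?_
      · have e : ((q : R) : Q) * (s * (q : R) * s) = 1 := congrArg Subtype.val (MonoidHom.mem_ker.1 q.2)
        have e2 := eq_inv_of_mul_eq_one_right e
        rw [inv_eq_of_mul_eq_one_left (hsq _ (q : R).2)] at e2
        exact e2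
      · intro a b e
        exact Subtype.ext (congrArg Subtype.val e :)
    have hmul := f.ker.card_mul_index
    rw [Subgroup.index_ker, hR] at hmul
    have hF3 : 3 * F.card ≤ Of.card := by
      rw [show 3 = Nat.card (zpowers x) by rw [Nat.card_zpowers, hx]]
      rw [← Fintype.card_subtype (fun r : R => s * (r : Q) * s = r), ← Nat.card_eq_fintype_card,
        ← Nat.card_prod, hOf, ← Fintype.card_subtype, ← Nat.card_eq_fintype_card]
      refine Nat.card_le_card_of_injective
        (fun q : zpowers x × {r : R // s * (r : Q) * s = r} =>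
          (⟨s * ((q.2.1 : R) : Q) * (q.1 : Q), ?_⟩ : {a : Q // orderOf a = 2 ∧ a ∉ D})) ?_
      · obtain ⟨⟨k, hk⟩, ⟨r, hr⟩⟩ := q
        obtain ⟨j, rfl⟩ : ∃ j : ℕ, x ^ j = k := (isOfFinOrder_of_finite x).mem_powers_iff_mem_zpowers.2 hk
        show orderOf (s * (r : Q) * x ^ j) = 2 ∧ s * (r : Q) * x ^ j ∉ D
        have hnD : s * (r : Q) * x ^ j ∉ D := fun h => hs.2 (by
          have h2 := D.mul_mem (D.mul_mem h (D.inv_mem (D.pow_mem hxD j))) (D.inv_mem (hRD r.2))
          simpa [mul_assoc] using h2)
        refine ⟨orderOf_eq_prime ?_ (fun e => hnD (e ▸ D.one_mem)), hnD⟩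
        have c1 : (x ^ j) * (r : Q) = r * x ^ j :=
          ((show Commute (r : Q) x from hcD _ (hRD r.2)).pow_right j).eq.symm
        have c2 : s * x ^ j = (x⁻¹) ^ j * s := hsc.pow_right j
        have c3 : s * (r : Q) = r * s := by
          calc s * (r : Q) = s * r * (s * s) := by rw [hs2, mul_one]
            _ = s * r * s * s := by simp [mul_assoc]
            _ = r * s := by rw [hr]
        calc (s * (r : Q) * x ^ j) ^ 2 = r * (s * x ^ j) * (r * (s * x ^ j)) := by
              rw [pow_two, c3]; simp [mul_assoc]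
          _ = r * (s * x ^ j) * (s * x ^ j * r) := by
              rw [mul_assoc s (x ^ j) (r : Q), c1, ← mul_assoc s, c3]; simp [mul_assoc]
          _ = r * ((x⁻¹) ^ j * (s * s) * x ^ j) * r := by
              conv_lhs => arg 1; rw [c2]
              simp [mul_assoc]
          _ = 1 := by rw [hs2, mul_one, inv_pow, inv_mul_cancel, mul_one, hsq _ r.2]
      · rintro ⟨⟨k, hk⟩, ⟨r, hr⟩⟩ ⟨⟨k', hk'⟩, ⟨r', hr'⟩⟩ e
        have e1 : s * (r : Q) * k = s * r' * k' := congrArg Subtype.val e
        rw [mul_assoc, mul_assoc] at e1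
        have e2 := mul_left_cancel e1
        have e3 : ((r' : Q))⁻¹ * r = k' * k⁻¹ := by
          rw [eq_mul_inv_iff_mul_eq, mul_assoc, e2, inv_mul_cancel_left]
        have hm1 : ((r' : Q))⁻¹ * r ∈ R ⊓ zpowers x :=
          mem_inf.2 ⟨mul_mem (inv_mem r'.2) r.2, e3 ▸ mul_mem hk' (inv_mem hk)⟩
        have hbot : R ⊓ zpowers x = ⊥ := Subgroup.inf_eq_bot_of_coprime (by
          rw [hR, Nat.card_zpowers, hx]; norm_num)
        rw [hbot, mem_bot, inv_mul_eq_one] at hm1
        obtain rfl : r = r' := Subtype.ext hm1.symm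
        obtain rfl := mul_left_cancel e2
        rfl
    have : Nat.card f.ker * Nat.card f.range ≤ F.card * F.card := Nat.mul_le_mul hker hrange
    rw [hmul] at this
    have : F.card ≤ 2 := by omega
    interval_cases h : F.card <;> omega
  intro a ha hax
  have h1 : a ∈ Af := by simp [hAf, ha, hD, mem_centralizer_singleton_iff, hax]
  have h2 : z ∈ Af := by simp [hAf, hz, hzD]
  exact Finset.card_le_one.1 hone.le a h1 z h2

end CfsgLib.Char.MEleven.Order
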