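import Cfsg.Agent.Lib.Char.MEleven.Order.Invol
import Cfsg.Agent.Lib.Char.MEleven.Order.Cent

/-!
# Simple groups of order 7920: the involution centralizer is `GL(2,3)`
-/

set_option autoImplicit false
set_option linter.all false

open Subgroup

namespace CfsgLib.Char.MEleven.Order

open CfsgLib.Char.LThreeThree

theorem pf_sign_of_mem : ∀ a : Equiv.Perm (Fin 4), (a = 1 ∨ (a * a = 1 ∧ ∀ i, a i ≠ i)) →
    Equiv.Perm.sign a = 1 := by
  decide +kernel

theorem pf_mem_of_sign : ∀ a : Equiv.Perm (Fin 4), a * a = 1 → Equiv.Perm.sign a = 1 →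
    (a = 1 ∨ (a * a = 1 ∧ ∀ i, a i ≠ i)) := by
  decide +kernel

theorem pf_three : ∀ a : Equiv.Perm (Fin 4), a ≠ 1 → a * a * a = 1 →
    Fintype.card {g : Equiv.Perm (Fin 4) // g * a = a * g} = 3 := by
  decide +kernel

theorem pf_two : ∀ a : Equiv.Perm (Fin 4), a * a = 1 → a ≠ 1 → ¬ (∀ i, a i ≠ i) →
    Fintype.card {g : Equiv.Perm (Fin 4) // g * a = a * g} = 4 ∧
    ∃ d : Equiv.Perm (Fin 4), d * d = 1 ∧ (∀ i, d i ≠ i) ∧ d * a = a * d ∧ a * d ≠ 1 ∧
      (a * d) * (a * d) = 1 ∧ ¬ ∀ i, (a * d) i ≠ i := by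
  decide +kernel

theorem pf_conj : ∀ a b : Equiv.Perm (Fin 4), a * a = 1 → b * b = 1 → a ≠ 1 → b ≠ 1 →
    ((∀ i, a i ≠ i) ↔ ∀ i, b i ≠ i) → ∃ g : Equiv.Perm (Fin 4), g * a * g⁻¹ = b := by
  decide +kernel

theorem pf_double : Fintype.card {a : Equiv.Perm (Fin 4) // a * a = 1 ∧ ∀ i, a i ≠ i} = 3 := by
  decide +kernel

theorem pf_invol : Fintype.card {a : Equiv.Perm (Fin 4) // a * a = 1 ∧ a ≠ 1} = 9 := by
  decide +kernel

theorem divisors_table : ∀ n ∈ Nat.divisors 7920, 72 ∣ n → ¬ 5 ∣ n → ¬ 11 ∣ n → n = 72 ∨ n = 144 := by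
  decide +kernel

universe u

variable {G : Type u} [Group G] [Finite G]

/-- What the characters give. -/
structure GHyp (G : Type u) [Group G] : Prop where
  card : Nat.card G = 7920
  conj : ∀ v w : G, orderOf v = 2 → orderOf w = 2 → IsConj v w
  cent : ∀ w : G, orderOf w = 2 → Nat.card (centralizer ({w} : Set G)) = 48
  count : ∀ w : G, orderOf w = 2 → Nat.card {a : G // orderOf a = 2 ∧ a * w = w * a ∧ a ≠ w} = 12
  five : ∀ y : G, orderOf y = 5 → Nat.card (centralizer ({y} : Set G)) = 5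
  eleven : ∀ y : G, orderOf y = 11 → Nat.card (centralizer ({y} : Set G)) = 11

theorem ghyp [IsSimpleGroup G] (h : Nat.card G = 7920) : GHyp G := by
  haveI := Fintype.ofFinite G
  haveI : Fact (Nat.Prime 5) := ⟨by norm_num⟩
  obtain ⟨P, hP, hC, -, -⟩ := eleven_data h
  obtain ⟨χ, Q, T⟩ := exists_table h
  exact ⟨h, fun v w hv hw => T.invol_conj h hv hw, fun w hw => (T.invol_data h hw).2,
    fun w hw => T.count_invol h hw, fun y hy => by rw [centralizer_of_order T.card_Q hy, T.cent_Q],
    fun y hy => cent_eleven hP hC hy⟩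

variable {w : G}

/-- The data inside an involution centralizer. -/
theorem GHyp.local_count (H : GHyp G) (hw : orderOf w = 2) :
    let z : centralizer ({w} : Set G) := ⟨w, mem_centralizer_singleton_iff.2 rfl⟩
    orderOf z = 2 ∧ (∀ a, a * z = z * a) ∧
      Nat.card {a : centralizer ({w} : Set G) // orderOf a = 2 ∧ a ≠ z} = 12 := by
  refine ⟨by rw [Subgroup.orderOf_mk, hw], fun a => Subtype.ext (mem_centralizer_singleton_iff.1 a.2), ?_⟩
  rw [← H.count w hw]
  refine Nat.card_congr
    { toFun := fun a => ⟨(a.1 : G), by rw [Subgroup.orderOf_coe, a.2.1],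
        mem_centralizer_singleton_iff.1 a.1.2, fun e => a.2.2 (Subtype.ext e)⟩
      invFun := fun a => ⟨⟨a.1, mem_centralizer_singleton_iff.2 a.2.2.1⟩,
        by rw [Subgroup.orderOf_mk]; exact a.2.1, fun e => a.2.2.2 (Subtype.ext_iff.1 e :)⟩
      left_inv := fun a => Subtype.ext (Subtype.ext rfl)
      right_inv := fun a => Subtype.ext rfl }

/-- No subgroup of order three is normal in an involution centralizer. -/
theorem GHyp.not_normal (H : GHyp G) (hw : orderOf w = 2) {x : centralizer ({w} : Set G)}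
    (hx : orderOf x = 3) (hn : ∀ g, g * x * g⁻¹ ∈ zpowers x) : False := by
  classical
  haveI : Fact (Nat.Prime 2) := ⟨Nat.prime_two⟩
  haveI : Fact (Nat.Prime 3) := ⟨Nat.prime_three⟩
  obtain ⟨hz, hzc, hcount⟩ := H.local_count hw
  set z : centralizer ({w} : Set G) := ⟨w, mem_centralizer_singleton_iff.2 rfl⟩ with hzdef
  obtain ⟨h24, honly⟩ := normal_three (H.cent w hw) hz hzc hcount hx hn
  have hxw : (x : G) * w = w * x := mem_centralizer_singleton_iff.1 x.2
  have hxG : orderOf (x : G) = 3 := by rw [Subgroup.orderOf_coe, hx]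
  set K : Subgroup G := centralizer ({(x : G)} : Set G) with hK
  have hwK : w ∈ K := mem_centralizer_singleton_iff.2 hxw.symm
  set wK : K := ⟨w, hwK⟩ with hwKdef
  have hZ : Nat.card (centralizer ({wK} : Set K)) = 24 := by
    rw [← h24]
    refine Nat.card_congr
      { toFun := fun a => ⟨⟨(a.1 : G), mem_centralizer_singleton_iff.2
          (Subtype.ext_iff.1 (mem_centralizer_singleton_iff.1 a.2) :)⟩,
          mem_centralizer_singleton_iff.2 (Subtype.ext (mem_centralizer_singleton_iff.1 a.1.2))⟩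
        invFun := fun a => ⟨⟨((a.1 : centralizer ({w} : Set G)) : G), mem_centralizer_singleton_iff.2
          (Subtype.ext_iff.1 (mem_centralizer_singleton_iff.1 a.2) :)⟩,
          mem_centralizer_singleton_iff.2 (Subtype.ext (mem_centralizer_singleton_iff.1 a.1.2))⟩
        left_inv := fun a => Subtype.ext (Subtype.ext rfl)
        right_inv := fun a => Subtype.ext (Subtype.ext rfl) }
  have h24d : 24 ∣ Nat.card K := hZ ▸ card_subgroup_dvd_card _
  have h9 : 9 ∣ Nat.card K := by
    obtain ⟨P, hP⟩ := (IsPGroup.of_card (p := 3) (n := 1) (G := zpowers (x : G))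
      (by rw [Nat.card_zpowers, hxG, pow_one])).exists_le_sylow
    have hPc : Nat.card (P : Subgroup G) = 3 ^ 2 := by
      rw [P.card_eq_multiplicity, H.card, show (7920 : ℕ) = 3 ^ 2 * 880 by norm_num,
        Nat.factorization_mul (by norm_num) (by norm_num), Nat.prime_three.factorization_pow,
        Finsupp.coe_add, Pi.add_apply, Finsupp.single_eq_same,
        Nat.factorization_eq_zero_of_not_dvd (by norm_num : ¬ 3 ∣ 880)]
    have hle : (P : Subgroup G) ≤ K := fun p hp => mem_centralizer_singleton_iff.2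
      (Subtype.ext_iff.1 (IsPGroup.commutative_of_card_eq_prime_sq hPc ⟨p, hp⟩
        ⟨(x : G), hP (mem_zpowers _)⟩) :)
    exact (show 9 = Nat.card (P : Subgroup G) by rw [hPc]; norm_num) ▸ card_dvd_of_le hle
  have hno : ∀ q : ℕ, q.Prime → ¬ q ∣ 3 → (∀ y : G, orderOf y = q → Nat.card (centralizer ({y} : Set G)) = q) →
      ¬ q ∣ Nat.card K := by
    intro q hq h3 hc hd
    haveI : Fact q.Prime := ⟨hq⟩
    obtain ⟨y, hy⟩ := exists_prime_orderOf_dvd_card' (G := K) q hd
    have h1 : orderOf (x : G) ∣ Nat.card (centralizer ({(y : G)} : Set G)) :=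
      Subgroup.orderOf_dvd_natCard _ (mem_centralizer_singleton_iff.2
        (mem_centralizer_singleton_iff.1 y.2).symm)
    rw [hxG, hc _ (by rw [Subgroup.orderOf_coe, hy])] at h1
    exact h3 (((Nat.prime_dvd_prime_iff_eq Nat.prime_three hq).1 h1) ▸ dvd_refl 3)
  have h72 : 72 ∣ Nat.card K := by
    have h8 : 8 ∣ Nat.card K := (by norm_num : 8 ∣ 24).trans h24d
    exact (by norm_num : Nat.Coprime 8 9).mul_dvd_of_dvd_of_dvd h8 h9
  rcases divisors_table _ (Nat.mem_divisors.2 ⟨H.card ▸ card_subgroup_dvd_card K, by norm_num⟩) h72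
    (hno 5 (by norm_num) (by norm_num) H.five) (hno 11 (by norm_num) (by norm_num) H.eleven) with e | e
  · -- the kernel of the action on the three conjugates of `w`
    set Z : Subgroup K := centralizer ({wK} : Set K) with hZdef
    have hidx : Z.index = 3 := by
      have := Z.card_mul_index
      rw [hZ, e] at this
      omega
    set N : Subgroup K := Z.normalCore with hN
    have hNidx : N.index ∣ 6 := by
      rw [hN, normalCore_eq_ker, index_ker]
      refine (card_subgroup_dvd_card _).trans ?_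
      rw [Nat.card_perm, show Nat.card (K ⧸ Z) = 3 from hidx]
      decide
    have h2N : 2 ∣ Nat.card N := by
      have h1 := N.card_mul_index
      rw [e] at h1
      obtain ⟨m, hm⟩ := hNidx
      exact ⟨6 * m, by nlinarith [Nat.pos_of_ne_zero N.index_ne_zero_of_finite]⟩
    obtain ⟨t, ht⟩ := exists_prime_orderOf_dvd_card' (G := N) 2 h2N
    have htZ : (t : K) ∈ Z := normalCore_le Z t.2
    have htw : (t : K) = wK := by
      have h1 : ((t : K) : G) * w = w * (t : K) := (Subtype.ext_iff.1 (mem_centralizer_singleton_iff.1 htZ) :)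
      have h2 := honly ⟨((t : K) : G), mem_centralizer_singleton_iff.2 h1⟩
        (by rw [Subgroup.orderOf_mk, Subgroup.orderOf_coe, Subgroup.orderOf_coe, ht])
        (Subtype.ext (mem_centralizer_singleton_iff.1 (t : K).2))
      exact Subtype.ext (Subtype.ext_iff.1 h2 :)
    have htop : Z = ⊤ := by
      refine (eq_top_iff' Z).2 fun g => mem_centralizer_singleton_iff.2 ?_
      have hgN : g * (t : K) * g⁻¹ ∈ N := (normalCore_normal Z).conj_mem _ t.2 g
      have hgZ := normalCore_le Z hgN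
      rw [htw] at hgZ
      have h1 : ((g * wK * g⁻¹ : K) : G) * w = w * (g * wK * g⁻¹ : K) :=
        (Subtype.ext_iff.1 (mem_centralizer_singleton_iff.1 hgZ) :)
      have h2 := honly ⟨((g * wK * g⁻¹ : K) : G), mem_centralizer_singleton_iff.2 h1⟩
        (by
          rw [Subgroup.orderOf_mk, Subgroup.orderOf_coe]
          exact ((MulAut.conj g).orderOf_eq wK).trans (by rw [hwKdef, Subgroup.orderOf_mk, hw]))
        (Subtype.ext (mem_centralizer_singleton_iff.1 (g * wK * g⁻¹ : K).2))
      exact mul_inv_eq_iff_eq_mul.1 (Subtype.ext (Subtype.ext_iff.1 h2 :))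
    rw [htop, card_top, e] at hZ
    norm_num at hZ
  · -- a full Sylow two-subgroup centralizes `x`
    obtain ⟨S⟩ : Nonempty (Sylow 2 K) := inferInstance
    have hS : Nat.card (S : Subgroup K) = 16 := by
      rw [S.card_eq_multiplicity, e, show (144 : ℕ) = 2 ^ 4 * 9 by norm_num,
        Nat.factorization_mul (by norm_num) (by norm_num), Nat.prime_two.factorization_pow,
        Finsupp.coe_add, Pi.add_apply, Finsupp.single_eq_same,
        Nat.factorization_eq_zero_of_not_dvd (by norm_num : ¬ 2 ∣ 9)]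
      norm_num
    haveI : Nontrivial (S : Subgroup K) := Finite.one_lt_card_iff_nontrivial.1 (by rw [hS]; norm_num)
    haveI : Nontrivial (center (S : Subgroup K)) := S.2.center_nontrivial
    obtain ⟨u', hu'⟩ := exists_prime_orderOf_dvd_card' (G := center (S : Subgroup K)) 2 (by
      obtain ⟨k, hk⟩ := (S.2.to_subgroup (center (S : Subgroup K))).exists_card_eq
      rcases k with _ | k
      · rw [pow_zero] at hk
        exact absurd hk Finite.one_lt_card.ne'
      · rw [hk, pow_succ]; exact dvd_mul_left 2 _)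
    obtain ⟨v, hv⟩ : ∃ v : G, v = (((u' : (S : Subgroup K)) : K) : G) := ⟨_, rfl⟩
    have hvo : orderOf v = 2 := by
      rw [hv, Subgroup.orderOf_coe, Subgroup.orderOf_coe, Subgroup.orderOf_coe, hu']
    have hvx : v * (x : G) = (x : G) * v := by
      rw [hv]; exact mem_centralizer_singleton_iff.1 ((u' : (S : Subgroup K)) : K).2
    have hM : centralizer ({v} : Set G) ≤ K := by
      have hle : centralizer ({v} : Set G) ⊓ K ≤ centralizer ({v} : Set G) := inf_le_left
      have h16 : 16 ∣ Nat.card (centralizer ({v} : Set G) ⊓ K : Subgroup G) := by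
        rw [← hS, ← card_map_of_injective (f := K.subtype) K.subtype_injective]
        refine card_dvd_of_le ?_
        rintro _ ⟨s, hs, rfl⟩
        refine mem_inf.2 ⟨mem_centralizer_singleton_iff.2 ?_, s.2⟩
        have e1 := mem_center_iff.1 u'.2 ⟨s, hs⟩
        rw [hv]
        exact congrArg (fun q : (S : Subgroup K) => ((q : K) : G)) e1
      have h3 : 3 ∣ Nat.card (centralizer ({v} : Set G) ⊓ K : Subgroup G) := by
        rw [← hxG]
        exact Subgroup.orderOf_dvd_natCard _ (mem_inf.2 ⟨mem_centralizer_singleton_iff.2 hvx.symm,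
          mem_centralizer_singleton_iff.2 rfl⟩)
      have heq := eq_of_le_of_card_ge hle (by
        rw [H.cent v hvo]
        exact Nat.le_of_dvd Nat.card_pos ((by norm_num : Nat.Coprime 16 3).mul_dvd_of_dvd_of_dvd h16 h3))
      exact heq ▸ inf_le_right
    obtain ⟨g, hg⟩ := isConj_iff.1 (H.conj v w hvo hw)
    have hcen : ∀ a ∈ centralizer ({w} : Set G), a * (g * x * g⁻¹) = (g * x * g⁻¹) * a := by
      intro a ha
      have hb : g⁻¹ * a * g ∈ centralizer ({v} : Set G) := mem_centralizer_singleton_iff.2 (by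
        have e1 : a * w = w * a := mem_centralizer_singleton_iff.1 ha
        rw [← hg] at e1
        calc g⁻¹ * a * g * v = g⁻¹ * (a * (g * v * g⁻¹)) * g := by group
          _ = v * (g⁻¹ * a * g) := by rw [e1]; group)
      have e2 : g⁻¹ * a * g * x = x * (g⁻¹ * a * g) := mem_centralizer_singleton_iff.1 (hM hb)
      calc a * (g * x * g⁻¹) = g * (g⁻¹ * a * g * x) * g⁻¹ := by group
        _ = _ := by rw [e2]; group
    have hx'w : g * (x : G) * g⁻¹ ∈ centralizer ({w} : Set G) :=
      mem_centralizer_singleton_iff.2 (hcen w (mem_centralizer_singleton_iff.2 rfl)).symm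
    have hx' : orderOf (⟨_, hx'w⟩ : centralizer ({w} : Set G)) = 3 := by
      rw [Subgroup.orderOf_mk]
      exact ((MulAut.conj g).orderOf_eq (x : G)).trans hxG
    have hcen' : ∀ a : centralizer ({w} : Set G), a * ⟨_, hx'w⟩ = ⟨_, hx'w⟩ * a :=
      fun a => Subtype.ext (hcen a a.2)
    obtain ⟨h24', -⟩ := normal_three (H.cent w hw) hz hzc hcount hx'
      (fun a => by rw [hcen' a, mul_inv_cancel_right]; exact mem_zpowers _)
    rw [show centralizer ({(⟨_, hx'w⟩ : centralizer ({w} : Set G))} : Set (centralizer ({w} : Set G))) = ⊤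
      from (eq_top_iff' _).2 fun a => mem_centralizer_singleton_iff.2 (hcen' a), card_top,
      H.cent w hw] at h24'
    norm_num at h24'

set_option maxHeartbeats 1000000 in
/-- An involution centralizer is `GL(2,3)`. -/
theorem GHyp.cent_iso (H : GHyp G) (hw : orderOf w = 2) :
    Nonempty (centralizer ({w} : Set G) ≃* GL (Fin 2) (ZMod 3)) := by
  classical
  haveI : Fact (Nat.Prime 3) := ⟨Nat.prime_three⟩
  haveI : Fact (Nat.Prime 2) := ⟨Nat.prime_two⟩
  obtain ⟨hz, hzc, hcount⟩ := H.local_count hw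
  have hQ := H.cent w hw
  set z : centralizer ({w} : Set G) := ⟨w, mem_centralizer_singleton_iff.2 rfl⟩ with hzdef
  have hnn := fun x => H.not_normal hw (x := x)
  generalize hzdef' : z = z' at hz hzc hcount
  clear hzdef' hzdef z
  revert z'
  generalize (centralizer ({w} : Set G)) = C at hQ hnn ⊢
  intro z hz hzc hcount
  have hPc : ∀ P : Sylow 3 C, Nat.card (P : Subgroup C) = 3 := by
    intro P
    rw [P.card_eq_multiplicity, hQ, show (48 : ℕ) = 2 ^ 4 * 3 ^ 1 by norm_num,
      Nat.factorization_mul (by norm_num) (by norm_num), Nat.prime_two.factorization_pow,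
      Nat.prime_three.factorization_pow]
    simp
  have hzN : ∀ P : Sylow 3 C, z ∈ normalizer ((P : Subgroup C) : Set C) := fun P =>
    centralizer_le_normalizer _ (mem_centralizer_iff.2 fun p _ => hzc p)
  have hn4 : Nat.card (Sylow 3 C) = 4 := by
    obtain ⟨P⟩ : Nonempty (Sylow 3 C) := inferInstance
    have h6 : 6 ∣ Nat.card (normalizer ((P : Subgroup C) : Set C)) :=
      (by norm_num : Nat.Coprime 3 2).mul_dvd_of_dvd_of_dvd ((hPc P).symm.dvd.trans (card_dvd_of_le le_normalizer))
        (hz ▸ Subgroup.orderOf_dvd_natCard _ (hzN P))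
    have hmul : Nat.card (Sylow 3 C) * Nat.card (normalizer ((P : Subgroup C) : Set C)) = 48 := by
      rw [P.card_eq_index_normalizer, ← hQ]; exact index_mul_card _
    have hmod := card_sylow_modEq_one 3 C
    obtain ⟨m, hm⟩ := h6
    rw [hm] at hmul
    have hd : Nat.card (Sylow 3 C) ∣ 8 := ⟨m, by nlinarith⟩
    have hne : Nat.card (Sylow 3 C) ≠ 1 := by
      intro e
      rw [P.card_eq_index_normalizer, index_eq_one] at e
      haveI : (P : Subgroup C).Normal := normalizer_eq_top_iff.1 e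
      obtain ⟨x, hx⟩ := exists_prime_orderOf_dvd_card' (G := (P : Subgroup C)) 3 (by rw [hPc P])
      rw [← Subgroup.orderOf_coe] at hx
      have hPx : zpowers (x : C) = (P : Subgroup C) :=
        eq_of_le_of_card_ge (zpowers_le.2 x.2) (by rw [hPc P, Nat.card_zpowers, hx])
      exact hnn x hx fun g => by rw [hPx]; exact Normal.conj_mem inferInstance _ x.2 g
    have key : ∀ n < 9, n ∣ 8 → n % 3 = 1 % 3 → n ≠ 1 → n = 4 := by decide
    exact key _ (Nat.lt_succ_of_le (Nat.le_of_dvd (by norm_num) hd)) hd hmod hne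
  have ε : Sylow 3 C ≃ Fin 4 := Finite.equivFinOfCardEq hn4
  let ρ : C →* Equiv.Perm (Fin 4) := (Equiv.permCongrHom ε).toMonoidHom.comp (MulAction.toPermHom C (Sylow 3 C))
  have hρ : ∀ (g : C) (i : Fin 4), ρ g i = ε (g • ε.symm i) := fun g i => rfl
  have hker : ∀ k ∈ ρ.ker, ∀ P : Sylow 3 C, k ∈ normalizer ((P : Subgroup C) : Set C) := by
    intro k hk P
    refine Sylow.smul_eq_iff_mem_normalizer.1 (ε.injective ?_)
    have h1 := hρ k (ε P)
    rw [MonoidHom.mem_ker.1 hk, ε.symm_apply_apply] at h1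
    exact h1.symm
  obtain ⟨P₁, P₂, hP12⟩ : ∃ a b : Sylow 3 C, a ≠ b := by
    haveI : Nontrivial (Sylow 3 C) := Finite.one_lt_card_iff_nontrivial.1 (by rw [hn4]; norm_num)
    exact exists_pair_ne _
  have hzK : z ∈ ρ.ker := by
    refine MonoidHom.mem_ker.2 (Equiv.ext fun i => ?_)
    rw [hρ, Sylow.smul_eq_iff_mem_normalizer.2 (hzN _), ε.apply_symm_apply]
    rfl
  have hK3 : ¬ 3 ∣ Nat.card ρ.ker := by
    intro hd
    obtain ⟨x, hx⟩ := exists_prime_orderOf_dvd_card' (G := ρ.ker) 3 hd
    rw [← Subgroup.orderOf_coe] at hx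
    have hall : ∀ P : Sylow 3 C, (P : Subgroup C) = zpowers (x : C) := by
      intro P
      have h1 := (IsPGroup.of_card (n := 1) (by rw [Nat.card_zpowers, hx, pow_one]) :
        IsPGroup 3 (zpowers (x : C))).inf_normalizer_sylow P
      have h2 : zpowers (x : C) ≤ (P : Subgroup C) :=
        ((le_inf le_rfl (zpowers_le.2 (hker _ x.2 P))).trans h1.le).trans inf_le_right
      exact (eq_of_le_of_card_ge h2 (by rw [hPc P, Nat.card_zpowers, hx])).symm
    exact hP12 (Sylow.ext ((hall P₁).trans (hall P₂).symm))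
  have hmulk : Nat.card ρ.ker * Nat.card ρ.range = 48 := by
    rw [← hQ, ← Subgroup.index_ker, card_mul_index]
  have h4r : 4 ∣ Nat.card ρ.range := by
    have htr : MulAction.orbit C P₁ = Set.univ := Set.eq_univ_of_forall fun P => MulAction.exists_smul_eq C P₁ P
    have h1 := MulAction.index_stabilizer C P₁
    rw [htr, Set.ncard_univ, hn4] at h1
    have hle : ρ.ker ≤ MulAction.stabilizer C P₁ := fun k hk =>
      Sylow.smul_eq_iff_mem_normalizer.2 (hker k hk P₁)
    rw [← Subgroup.index_ker]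
    exact h1.symm.dvd.trans (index_dvd_of_le hle)
  have h24 : Nat.card ρ.range ∣ 24 := by
    have := card_subgroup_dvd_card ρ.range
    rwa [Nat.card_perm, Nat.card_fin, show Nat.factorial 4 = 24 from rfl] at this
  have h3r : 3 ∣ Nat.card ρ.range :=
    (Nat.prime_three.dvd_mul.1 (hmulk ▸ (by norm_num : 3 ∣ 48))).resolve_left hK3
  have hr : Nat.card ρ.range = 12 ∨ Nat.card ρ.range = 24 := by
    have key : ∀ n < 25, n ∣ 24 → 4 ∣ n → 3 ∣ n → n = 12 ∨ n = 24 := by decide
    exact key _ (Nat.lt_succ_of_le (Nat.le_of_dvd (by norm_num) h24)) h24 h4r h3r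
  have hr24 : Nat.card ρ.range = 24 := by
    refine hr.resolve_left fun e => ?_
    have hi : ρ.range.index = 2 := by
      have := ρ.range.card_mul_index
      rw [e, Nat.card_perm, Nat.card_fin, show Nat.factorial 4 = 24 from rfl] at this
      omega
    have hA : ρ.range = alternatingGroup (Fin 4) := Equiv.Perm.eq_alternatingGroup_of_index_eq_two hi
    have hVle : vFour ≤ ρ.range := fun a ha => hA ▸ Equiv.Perm.mem_alternatingGroup.2 (pf_sign_of_mem a ha)
    refine sixteen_contra hz hcount (R := vFour.comap ρ) ?_ fun a ha => ?_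
    · have hV : Nat.card vFour = 4 :=
        (Nat.card_congr (Equiv.subtypeEquivRight fun g => vFour_mem)).trans
          (Nat.card_eq_fintype_card.trans vFour_card)
      have h1 := Subgroup.relIndex_mul_relIndex ⊥ vFour ρ.range bot_le hVle
      rw [relIndex_bot_left, relIndex_bot_left, hV, e] at h1
      have h2 := (vFour.comap ρ).card_mul_index
      rw [Subgroup.index_comap, hQ, show vFour.relIndex ρ.range = 3 by omega] at h2
      omega
    · have h2 : ρ a * ρ a = 1 := by
        rw [← map_mul, ← pow_two, ← ha, pow_orderOf_eq_one, map_one]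
      exact pf_mem_of_sign _ h2 (Equiv.Perm.mem_alternatingGroup.1 (hA ▸ MonoidHom.mem_range.2 ⟨a, rfl⟩))
  have hk2 : Nat.card ρ.ker = 2 := by rw [hr24] at hmulk; omega
  have hKz : ρ.ker = zpowers z :=
    (eq_of_le_of_card_ge (zpowers_le.2 hzK) (by rw [Nat.card_zpowers, hz, hk2])).symm
  have hker2 : ∀ k : C, ρ k = 1 → k = 1 ∨ k = z := by
    intro k hk
    have : k ∈ zpowers z := hKz ▸ MonoidHom.mem_ker.2 hk
    obtain ⟨j, hj⟩ := (isOfFinOrder_of_finite z).mem_powers_iff_mem_zpowers.2 this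
    have hj' : z ^ j = k := hj
    rcases (show j % 2 = 0 ∨ j % 2 = 1 by omega) with e | e <;> rw [← pow_mod_orderOf, hz, e] at hj'
    · exact Or.inl (by rw [← hj', pow_zero])
    · exact Or.inr (by rw [← hj', pow_one])
  have hsurj : Function.Surjective ρ := by
    rw [← MonoidHom.range_eq_top]
    exact eq_top_of_card_eq _ (by rw [hr24, Nat.card_perm, Nat.card_fin]; rfl)
  have hz1 : ρ z = 1 := MonoidHom.mem_ker.1 hzK
  have hz2 : z * z = 1 := by rw [← pow_two, ← hz, pow_orderOf_eq_one]
  -- the images of the non-central involutions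
  have him : ∀ a : C, orderOf a = 2 → a ≠ z → ρ a * ρ a = 1 ∧ ρ a ≠ 1 := by
    intro a ha hne
    refine ⟨by rw [← map_mul, ← pow_two, ← ha, pow_orderOf_eq_one, map_one], fun e => ?_⟩
    rcases hker2 a e with rfl | rfl
    · rw [orderOf_one] at ha; norm_num at ha
    · exact hne rfl
  have hlift : ∀ a : C, orderOf a = 2 → a ≠ z → ∀ c : C, ρ c * ρ c = 1 → ρ c ≠ 1 →
      ((∀ i, ρ a i ≠ i) ↔ ∀ i, ρ c i ≠ i) → orderOf c = 2 ∧ c ≠ z := by
    intro a ha hne c hc hc1 hiff
    obtain ⟨h1, h2⟩ := him a ha hne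
    obtain ⟨g, hg⟩ := pf_conj _ _ h1 hc h2 hc1 hiff
    obtain ⟨g, rfl⟩ := hsurj g
    have ha2 : a * a = 1 := by rw [← pow_two, ← ha, pow_orderOf_eq_one]
    have hd : (g * a * g⁻¹)⁻¹ * c = 1 ∨ (g * a * g⁻¹)⁻¹ * c = z := hker2 _ (by
      rw [map_mul, map_inv, map_mul, map_mul, map_inv, hg, inv_mul_cancel])
    refine ⟨orderOf_eq_prime ?_ fun e => hc1 (by rw [e, map_one]), fun e => hc1 (by rw [e, hz1])⟩
    rw [pow_two]
    have hgg : g * a * g⁻¹ * (g * a * g⁻¹) = 1 := by
      calc g * a * g⁻¹ * (g * a * g⁻¹) = g * (a * a) * g⁻¹ := by group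
        _ = 1 := by rw [ha2]; group
    rcases hd with e | e
    · rw [← inv_mul_eq_one.1 e, hgg]
    · rw [inv_mul_eq_iff_eq_mul.1 e, mul_assoc, ← mul_assoc z, ← hzc, mul_assoc _ z z, hz2, mul_one, hgg]
  have hfib : ∀ p : Equiv.Perm (Fin 4) → Prop, Nat.card {c : C // p (ρ c)} = 2 * Nat.card {b // p b} := by
    intro p
    choose σ hσ using hsurj
    let E : (ρ.ker × {b : Equiv.Perm (Fin 4) // p b}) ≃ {c : C // p (ρ c)} :=
      { toFun := fun q => ⟨σ q.2.1 * (q.1 : C), by
          rw [map_mul, hσ, MonoidHom.mem_ker.1 q.1.2, mul_one]; exact q.2.2⟩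
        invFun := fun c => (⟨(σ (ρ c.1))⁻¹ * c.1, MonoidHom.mem_ker.2 (by
          rw [map_mul, map_inv, hσ, inv_mul_cancel])⟩, ⟨ρ c.1, c.2⟩)
        left_inv := fun q => by
          have e : ρ (σ q.2.1 * (q.1 : C)) = q.2.1 := by
            rw [map_mul, hσ, MonoidHom.mem_ker.1 q.1.2, mul_one]
          exact Prod.ext (Subtype.ext (by simp [e])) (Subtype.ext e)
        right_inv := fun c => Subtype.ext (mul_inv_cancel_left _ _) }
    rw [← Nat.card_congr E, Nat.card_prod, hk2]
  have hnodouble : ∀ a : C, orderOf a = 2 → a ≠ z → ¬ ∀ i, ρ a i ≠ i := by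
    intro a ha hne hd
    by_cases hex : ∃ b : C, orderOf b = 2 ∧ b ≠ z ∧ ¬ ∀ i, ρ b i ≠ i
    · obtain ⟨b, hb, hbne, hbd⟩ := hex
      have h18 : 18 ≤ 12 := by
        have e := hfib (fun q => q * q = 1 ∧ q ≠ 1)
        rw [Nat.card_eq_fintype_card (α := {b : Equiv.Perm (Fin 4) // b * b = 1 ∧ b ≠ 1}), pf_invol] at e
        rw [← hcount, show 18 = 2 * 9 from rfl, ← e]
        refine Nat.card_le_card_of_injective (fun c => ⟨c.1, ?_⟩) fun c d e => Subtype.ext (by simpa using e)
        by_cases hcd : ∀ i, ρ c.1 i ≠ i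
        · exact hlift a ha hne c.1 c.2.1 c.2.2 ⟨fun _ => hcd, fun _ => hd⟩
        · exact hlift b hb hbne c.1 c.2.1 c.2.2 ⟨fun h => absurd h hbd, fun h => absurd h hcd⟩
      omega
    · push Not at hex
      have h6 : 12 ≤ 6 := by
        have e := hfib (fun q => q * q = 1 ∧ ∀ i, q i ≠ i)
        rw [Nat.card_eq_fintype_card (α := {b : Equiv.Perm (Fin 4) // b * b = 1 ∧ ∀ i, b i ≠ i}), pf_double] at e
        rw [← hcount, show 6 = 2 * 3 from rfl, ← e]
        refine Nat.card_le_card_of_injective (fun c => ⟨c.1, (him c.1 c.2.1 c.2.2).1, hex c.1 c.2.1 c.2.2⟩)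
          fun c d e => Subtype.ext (by simpa using e)
      omega
  obtain ⟨⟨t, ht, htz⟩⟩ : Nonempty {a : C // orderOf a = 2 ∧ a ≠ z} :=
    (Nat.card_pos_iff.1 (by rw [hcount]; norm_num)).1
  obtain ⟨hb2, hb1⟩ := him t ht htz
  have hbt := hnodouble t ht htz
  refine gl_two_three_of_centralizers hQ hz hzc (fun x hx => ?_) ht htz ?_
  · -- elements of order three
    have h6 : 6 ∣ Nat.card (centralizer ({x} : Set C)) :=
      (by norm_num : Nat.Coprime 3 2).mul_dvd_of_dvd_of_dvd
        (hx ▸ Subgroup.orderOf_dvd_natCard _ (mem_centralizer_singleton_iff.2 rfl))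
        (hz ▸ Subgroup.orderOf_dvd_natCard _ (mem_centralizer_singleton_iff.2 (hzc x).symm))
    have hx3 : ρ x * ρ x * ρ x = 1 := by
      rw [← map_mul, ← map_mul, ← pow_two, ← pow_succ, show 2 + 1 = orderOf x from hx.symm,
        pow_orderOf_eq_one, map_one]
    have hx1 : ρ x ≠ 1 := fun e => by
      rcases hker2 x e with rfl | rfl
      · rw [orderOf_one] at hx; norm_num at hx
      · rw [hz] at hx; norm_num at hx
    have hle : Nat.card (centralizer ({x} : Set C)) ≤ 6 := by
      have e := hfib (fun q => q * ρ x = ρ x * q)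
      rw [Nat.card_eq_fintype_card (α := {g : Equiv.Perm (Fin 4) // g * ρ x = ρ x * g}), pf_three _ hx1 hx3] at e
      rw [show 6 = 2 * 3 from rfl, ← e]
      refine Nat.card_le_card_of_injective (fun c => ⟨c.1, ?_⟩) fun c d e => Subtype.ext (by simpa using e)
      rw [← map_mul, ← map_mul, mem_centralizer_singleton_iff.1 c.2]
    exact le_antisymm hle (Nat.le_of_dvd Nat.card_pos h6)
  · obtain ⟨hc4, d, hd2, hdd, hdc, had1, had2, hadd⟩ := pf_two _ hb2 hb1 hbt
    have hne_d : ∀ D : C, ρ D = d → D * D = z := by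
      intro D hD
      rcases hker2 (D * D) (by rw [map_mul, hD, hd2]) with e | e
      · exfalso
        refine hnodouble D (orderOf_eq_prime (by rw [pow_two, e]) ?_) ?_ (hD ▸ hdd)
        · rintro rfl; rw [map_one] at hD; exact hdd 0 (by rw [← hD]; rfl)
        · rintro rfl; rw [hz1] at hD; exact hdd 0 (by rw [← hD]; rfl)
      · exact e
    have hno : ∀ D : C, ρ D = d → D ∉ centralizer ({t} : Set C) := by
      intro D hD hDc
      have hcomm : D * t = t * D := mem_centralizer_singleton_iff.1 hDc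
      have ht2 : t * t = 1 := by rw [← pow_two, ← ht, pow_orderOf_eq_one]
      obtain ⟨hinv, -⟩ := hlift t ht htz (t * D) (by rw [map_mul, hD]; exact had2)
        (by rw [map_mul, hD]; exact had1) (by rw [map_mul, hD]; exact ⟨fun h => absurd h hbt, fun h => absurd h hadd⟩)
      have e : t * D * (t * D) = 1 := by rw [← pow_two, ← hinv, pow_orderOf_eq_one]
      rw [mul_assoc, ← mul_assoc D, hcomm, mul_assoc t D D, hne_d D hD, ← mul_assoc, ht2, one_mul] at e
      rw [e, orderOf_one] at hz; norm_num at hz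
    by_contra hlt
    push Not at hlt
    set I : Subgroup (Equiv.Perm (Fin 4)) := (centralizer ({t} : Set C)).map ρ with hI
    have hIle : I ≤ centralizer ({ρ t} : Set (Equiv.Perm (Fin 4))) := by
      rintro _ ⟨c, hc, rfl⟩
      exact mem_centralizer_singleton_iff.2 (by rw [← map_mul, ← map_mul, mem_centralizer_singleton_iff.1 hc])
    have hC4 : Nat.card (centralizer ({ρ t} : Set (Equiv.Perm (Fin 4)))) = 4 := by
      refine Eq.trans ?_ hc4
      rw [← Nat.card_eq_fintype_card]
      exact Nat.card_congr (Equiv.subtypeEquivRight fun g => mem_centralizer_singleton_iff)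
    have hcardI : Nat.card (centralizer ({t} : Set C)) ≤ 2 * Nat.card I := by
      have e := hfib (fun q => q ∈ I)
      rw [show Nat.card I = Nat.card {b // b ∈ I} from rfl, ← e]
      exact Nat.card_le_card_of_injective (fun c => ⟨c.1, mem_map_of_mem ρ c.2⟩)
        fun c d e => Subtype.ext (by simpa using e)
    have hI4 : Nat.card I = 4 := by
      have hd4 : Nat.card I ∣ 4 := (card_dvd_of_le hIle).trans hC4.dvd
      have key : ∀ n < 5, n ∣ 4 → 3 ≤ n → n = 4 := by decide
      exact key _ (Nat.lt_succ_of_le (Nat.le_of_dvd (by norm_num) hd4)) hd4 (by omega)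
    have hIeq : I = centralizer ({ρ t} : Set (Equiv.Perm (Fin 4))) :=
      eq_of_le_of_card_ge hIle (by rw [hI4, hC4])
    obtain ⟨D, hDc, hD⟩ : d ∈ I := hIeq.symm ▸ mem_centralizer_singleton_iff.2 hdc
    exact hno D hD hDc

end CfsgLib.Char.MEleven.Order
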