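import Cfsg.Agent.Lib.Char.MEleven.Order.Blocks

/-!
# Simple groups of order 7920: the principal block for the prime five and the character degrees
-/

set_option autoImplicit false
set_option linter.all false

open Cfsg CfsgLib.Perm.PrimeBlock CfsgLib.Block Finset
open scoped ComplexConjugate

namespace CfsgLib.Char.MEleven.Order

theorem five_params : ∀ n ∈ Nat.divisors 1584, ∀ e ∈ [2, 4], n % 5 = 1 → 1 < n → (1584 / n) % e = 0 →
    (1584 / n / e) % 2 = 0 ∨ (1584 / n / e) % 11 = 0 ∨ (n = 396 ∧ e = 4) := by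
  decide +kernel

universe u

variable {G : Type u} [Group G] [Finite G] [IsSimpleGroup G] [Fintype G]

/-- The principal block contains a character of degree prime to eleven. -/
theorem exists_not_eleven {e : ℕ} {Q : Subgroup G} (he : e ∣ 4) (he2 : 2 ≤ e) (T : Shape 5 e Q) :
    ∃ χ ∈ T.X ∪ T.Y, ¬ 11 ∣ dg χ := by
  haveI : Fact (Nat.Prime 5) := ⟨by norm_num⟩
  obtain ⟨θ, hθ⟩ : T.Y.Nonempty := Finset.card_pos.1 (by
    rw [T.card_Y]; exact Nat.div_pos (Nat.le_of_dvd (by norm_num) he) (by omega))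
  by_contra hno
  push Not at hno
  have hrel := rel_one T hθ
  have h1 : (11 : ℤ) ∣ T.ε * (T.D : ℤ) := by
    refine dvd_mul_of_dvd_right ?_ _
    rw [← show dg θ = T.D from T.degree_Y θ hθ]
    exact_mod_cast hno θ (Finset.mem_union_right _ hθ)
  have h2 : (11 : ℤ) ∣ ∑ χ ∈ T.X, sd T χ := Finset.dvd_sum fun χ hχ => by
    refine dvd_mul_of_dvd_right ?_ _
    exact_mod_cast hno χ (Finset.mem_union_left _ hχ)
  omega

/-- The degrees in the principal block are prime to five. -/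
theorem five_prime {e : ℕ} {Q : Subgroup G} (he : e ∣ 4) (he2 : 2 ≤ e) (T : Shape 5 e Q)
    {χ : IrrCharacter G} (hχ : χ ∈ T.X ∪ T.Y) : ¬ 5 ∣ dg χ ∧
    (χ ∈ T.X → T.εX χ * (dg χ : ℤ) % 5 = 1) ∧ (χ ∈ T.Y → T.ε * (dg χ : ℤ) % 5 = e) := by
  have hX : χ ∈ T.X → T.εX χ * (dg χ : ℤ) % 5 = 1 := by
    intro hx
    have hm := T.degree_X χ hx
    rw [Int.ModEq] at hm
    simp only [dg] at hm ⊢
    push_cast at hm
    rcases T.sign_X χ hx with s | s <;> rw [s] at hm ⊢ <;> omega
  have he4 : e ≤ 4 := Nat.le_of_dvd (by norm_num) he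
  have hY : χ ∈ T.Y → T.ε * (dg χ : ℤ) % 5 = e := by
    intro hy
    have hm := T.congr_Y
    rw [Int.ModEq] at hm
    rw [show dg χ = T.D from T.degree_Y χ hy]
    push_cast at hm
    rcases T.sign with s | s <;> rw [s] at hm ⊢ <;> omega
  refine ⟨fun h5 => ?_, hX, hY⟩
  have h5' : (5 : ℤ) ∣ (dg χ : ℤ) := by exact_mod_cast h5
  rcases Finset.mem_union.1 hχ with hm | hm
  · have := hX hm
    have := dvd_mul_of_dvd_right h5' (T.εX χ)
    omega
  · have := hY hm
    have := dvd_mul_of_dvd_right h5' T.ε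
    omega

/-- No involution centralizes the Sylow 5-subgroup. -/
theorem no_invol_cent {e : ℕ} {Q : Subgroup G} (hQ : Nat.card Q = 5) (he : e ∣ 4) (he2 : 2 ≤ e)
    (T : Shape 5 e Q) (hz : ∀ χ : IrrCharacter G, χ ≠ oneChar G → ¬ 11 ∣ dg χ → ¬ 5 ∣ dg χ →
      ∀ u : G, orderOf u = 2 → (χ : G → ℂ) u = 0)
    {v : G} (hv : orderOf v = 2) (hvC : v ∈ Subgroup.centralizer (Q : Set G)) : False := by
  classical
  haveI : Fact (Nat.Prime 5) := ⟨by norm_num⟩
  obtain ⟨y', hy'⟩ := exists_prime_orderOf_dvd_card' (G := Q) 5 (by rw [hQ])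
  have hy : orderOf (y' : G) = 5 := by rw [Subgroup.orderOf_coe, hy']
  have hcomm : Commute (y' : G) v := Subgroup.mem_centralizer_iff.1 hvC y' y'.2
  have hpow : ∀ j : ℕ, ¬ 5 ∣ j → (y' : G) ^ j ∈ Q ∧ (y' : G) ^ j ≠ 1 := fun j hj =>
    ⟨pow_mem y'.2 j, fun hh => hj (hy ▸ orderOf_dvd_of_pow_eq_one hh)⟩
  have hvr : ¬ 5 ∣ orderOf v := by rw [hv]; norm_num
  obtain ⟨χ, hχ, h11⟩ := exists_not_eleven he he2 T
  rcases Finset.mem_union.1 hχ with hX | hY
  · have h0 := hz χ (fun e => T.one_notMem_X (e ▸ hX)) h11 (five_prime he he2 T hχ).1 v hv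
    have := dvd_value_sub (CfsgLib.Char.isCharacter_irr χ) (by norm_num : Nat.Prime 5) (by norm_num)
      hy hv hcomm (c := T.εX χ) (r := 0) (fun j hj => T.value_X χ hX _ (hpow j hj).1 (hpow j hj).2 v hvC hvr)
      (by rw [h0]; simp)
    rcases T.sign_X χ hX with s | s <;> rw [s] at this <;> omega
  · have h0 := hz χ (fun e => T.one_notMem_Y (e ▸ hY)) h11 (five_prime he he2 T hχ).1 v hv
    have := dvd_value_sub (CfsgLib.Char.isCharacter_sum T.Y (fun θ => (θ : G → ℂ))
        fun θ _ => CfsgLib.Char.isCharacter_irr θ) (by norm_num : Nat.Prime 5) (by norm_num)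
      hy hv hcomm (c := -T.ε) (r := 0)
      (fun j hj => by rw [Finset.sum_apply, T.value_Y _ (hpow j hj).1 (hpow j hj).2 v hvC hvr]; simp)
      (by rw [Finset.sum_apply, Finset.sum_eq_zero fun θ hθ => by
            rw [T.regular_Y θ hθ χ hY v hvr, h0]]
          simp)
    rcases T.sign with s | s <;> rw [s] at this <;> omega

/-- The Sylow 5-subgroup. -/
theorem five_data (h : Nat.card G = 7920)
    (hz : ∀ χ : IrrCharacter G, χ ≠ oneChar G → ¬ 11 ∣ dg χ → ¬ 5 ∣ dg χ →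
      ∀ u : G, orderOf u = 2 → (χ : G → ℂ) u = 0)
    (hc11 : ∀ x : G, orderOf x = 11 → Nat.card (Subgroup.centralizer ({x} : Set G)) = 11) :
    ∃ Q : Sylow 5 G, Nat.card (Q : Subgroup G) = 5 ∧
      Nat.card (Subgroup.centralizer ((Q : Subgroup G) : Set G)) = 5 ∧
      Nat.card (Subgroup.normalizer ((Q : Subgroup G) : Set G)) = 20 ∧
      Nonempty (Shape 5 4 (Q : Subgroup G)) := by
  classical
  haveI : Fact (Nat.Prime 5) := ⟨by norm_num⟩
  haveI : Fact (Nat.Prime 2) := ⟨Nat.prime_two⟩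
  haveI : Fact (Nat.Prime 11) := ⟨by norm_num⟩
  obtain ⟨Q, n, e, c, hQ, hn, hn1, hn2, -, he2, hep, hC, hN, -, ⟨T⟩⟩ :=
    exists_data (noncomm h) 5 1584 (by norm_num) (by rw [h]) (by norm_num)
  have hnd : n ∈ Nat.divisors 1584 := Nat.mem_divisors.2 ⟨⟨e * c, hn.symm⟩, by norm_num⟩
  have hel : e ∈ [2, 4] := by
    have := Nat.le_of_dvd (by norm_num) hep
    interval_cases e <;> simp_all
  have hmn : 1584 / n = e * c := by rw [← hn, Nat.mul_div_cancel_left _ (by omega)]
  have hcc : 1584 / n / e = c := by rw [hmn, Nat.mul_div_cancel_left _ (by omega)]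
  rcases five_params n hnd e hel hn1 hn2 (by rw [hmn]; exact Nat.mul_mod_right _ _) with hev | h11 | ⟨rfl, rfl⟩
  · exfalso
    rw [hcc] at hev
    obtain ⟨v, hv⟩ := exists_prime_orderOf_dvd_card'
      (G := Subgroup.centralizer ((Q : Subgroup G) : Set G)) 2
      (by rw [hC]; exact (Nat.dvd_of_mod_eq_zero hev).mul_left 5)
    exact no_invol_cent hQ hep he2 T hz (by rw [Subgroup.orderOf_coe, hv]) v.2
  · exfalso
    rw [hcc] at h11
    obtain ⟨w, hw⟩ := exists_prime_orderOf_dvd_card'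
      (G := Subgroup.centralizer ((Q : Subgroup G) : Set G)) 11
      (by rw [hC]; exact (Nat.dvd_of_mod_eq_zero h11).mul_left 5)
    have h1 : 5 ∣ Nat.card (Subgroup.centralizer ({(w : G)} : Set G)) := by
      refine hQ.symm.dvd.trans ?_
      exact Subgroup.card_dvd_of_le fun y hy =>
        Subgroup.mem_centralizer_singleton_iff.2 (Subgroup.mem_centralizer_iff.1 w.2 y hy)
    rw [hc11 _ (by rw [Subgroup.orderOf_coe, hw])] at h1
    norm_num at h1
  · obtain rfl : c = 1 := by omega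
    exact ⟨Q, hQ, by rw [hC], by rw [hN], ⟨T⟩⟩

/-- The degrees. -/
def degs : Fin 10 → ℕ := ![1, 10, 10, 10, 45, 16, 16, 11, 44, 55]

/-- The character table, as far as it is needed. -/
structure Table (χ : Fin 10 → IrrCharacter G) (Q : Sylow 5 G) : Prop where
  bij : Function.Bijective χ
  deg : ∀ i, dg (χ i) = degs i
  one : ∀ g : G, (χ 0 : G → ℂ) g = 1
  card_Q : Nat.card (Q : Subgroup G) = 5
  cent_Q : Nat.card (Subgroup.centralizer ((Q : Subgroup G) : Set G)) = 5
  norm_Q : Nat.card (Subgroup.normalizer ((Q : Subgroup G) : Set G)) = 20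
  invol : ∀ u : G, orderOf u = 2 → ∃ ra rb rc : ℤ, (χ 1 : G → ℂ) u = ra ∧ (χ 2 : G → ℂ) u = rb ∧
    (χ 3 : G → ℂ) u = rc ∧ (χ 4 : G → ℂ) u = ((-3 : ℤ) : ℂ) ∧ (χ 5 : G → ℂ) u = 0 ∧ (χ 6 : G → ℂ) u = 0 ∧
    ra + rb + rc = -2 ∧ ra * ra + rb * rb + rc * rc = 12
  rel_eleven : ∀ g : G, ¬ 11 ∣ orderOf g → (χ 6 : G → ℂ) g = (χ 5 : G → ℂ) g ∧
    (χ 5 : G → ℂ) g = 1 - (χ 1 : G → ℂ) g - (χ 2 : G → ℂ) g - (χ 3 : G → ℂ) g + (χ 4 : G → ℂ) g
  rel_five : ∀ g : G, ¬ 5 ∣ orderOf g →
    1 + (χ 5 : G → ℂ) g + (χ 6 : G → ℂ) g + (χ 7 : G → ℂ) g - (χ 8 : G → ℂ) g = 0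
  at_five : ∀ y ∈ (Q : Subgroup G), y ≠ 1 → (χ 1 : G → ℂ) y = 0 ∧ (χ 2 : G → ℂ) y = 0 ∧
    (χ 3 : G → ℂ) y = 0 ∧ (χ 4 : G → ℂ) y = 0 ∧ (χ 5 : G → ℂ) y = 1 ∧ (χ 6 : G → ℂ) y = 1 ∧
    (χ 7 : G → ℂ) y = 1 ∧ (χ 8 : G → ℂ) y = -1 ∧ (χ 9 : G → ℂ) y = 0

set_option maxHeartbeats 1000000 in
theorem exists_table (h : Nat.card G = 7920) :
    ∃ (χ : Fin 10 → IrrCharacter G) (Q : Sylow 5 G), Table χ Q := by
  classical
  haveI : Fact (Nat.Prime 5) := ⟨by norm_num⟩
  haveI : Fact (Nat.Prime 11) := ⟨by norm_num⟩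
  haveI := Fintype.ofFinite (IrrCharacter G)
  obtain ⟨P, hP, hC, hN, ⟨S⟩⟩ := eleven_data h
  obtain ⟨hsmall, hA⟩ := small_vanish h hP hC hN S
  obtain ⟨Q, hQ, hQC, hQN, ⟨T⟩⟩ := five_data h (fun χ a b c => (hsmall χ a b c).2)
    (fun x hx => cent_eleven hP hC hx)
  obtain ⟨a, b, c, d, hnd, hXeq, hcase⟩ := eleven_cases h S
  have h45 : (4 : ℕ) ∣ 4 := dvd_refl 4
  have mem : ∀ x ∈ [a, b, c, d], x ∈ S.X := fun x hx => by rw [hXeq]; exact List.mem_toFinset.2 hx
  have hdg : ∀ x ∈ S.X, ∀ z : ℤ, sd S x = z → dg x = z.natAbs := by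
    intro x hx z hz
    subst hz
    simp only [sd]
    rcases S.sign_X x hx with s | s <;> rw [s] <;> simp
  -- the case with degrees 12 and 5 is impossible
  have h16 : ∀ x ∈ T.X ∪ T.Y, ¬ 11 ∣ dg x → dg x = 16 := by
    intro x hx h11
    have hne : x ≠ oneChar G := fun e => by
      rcases Finset.mem_union.1 hx with hm | hm
      · exact T.one_notMem_X (e ▸ hm)
      · exact T.one_notMem_Y (e ▸ hm)
    obtain ⟨h5, hX, hY⟩ := five_prime h45 (by norm_num) T hx
    rcases (hsmall x hne h11 h5).1 with h12 | h16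
    · exfalso
      rcases Finset.mem_union.1 hx with hm | hm
      · have := hX hm
        rw [h12] at this
        rcases T.sign_X x hm with s | s <;> rw [s] at this <;> norm_num at this
      · have := hY hm
        rw [h12] at this
        rcases T.sign with s | s <;> rw [s] at this <;> norm_num at this
    · exact h16
  obtain ⟨ha, hb, hc, hd, hε, hD⟩ : sd S a = -10 ∧ sd S b = -10 ∧ sd S c = -10 ∧ sd S d = 45 ∧
      S.ε = 1 ∧ S.D = 16 := by
    refine hcase.resolve_right ?_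
    rintro ⟨ha, hb, hc, hd, -, hD⟩
    obtain ⟨x, hx, h11⟩ := exists_not_eleven h45 (by norm_num) T
    have hx16 := h16 x hx h11
    have hne : x ≠ oneChar G := fun e => by rw [e, dg_one] at hx16; norm_num at hx16
    by_cases hX : x ∈ S.X
    · rw [hXeq] at hX
      simp only [List.mem_toFinset, List.mem_cons, List.not_mem_nil, or_false] at hX
      rcases hX with rfl | rfl | rfl | rfl
      · rw [hdg x (mem x (by simp)) _ ha] at hx16; norm_num at hx16
      · rw [hdg x (mem x (by simp)) _ hb] at hx16; norm_num at hx16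
      · rw [hdg x (mem x (by simp)) _ hc] at hx16; norm_num at hx16
      · rw [hdg x (mem x (by simp)) _ hd] at hx16; norm_num at hx16
    · by_cases hY : x ∈ S.Y
      · rw [show dg x = S.D from S.degree_Y x hY, hD] at hx16; norm_num at hx16
      · exact h11 (eleven_outside hP hC S x hne hX hY)
  have da := hdg a (mem a (by simp)) _ ha
  have db := hdg b (mem b (by simp)) _ hb
  have dc := hdg c (mem c (by simp)) _ hc
  have dd := hdg d (mem d (by simp)) _ hd
  norm_num at da db dc dd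
  -- the block for five
  set Z : Finset (IrrCharacter G) := T.X ∪ T.Y with hZdef
  let sg : IrrCharacter G → ℤ := fun x => if x ∈ T.X then T.εX x else -T.ε
  let f : IrrCharacter G → ℤ := fun x => sg x * (dg x : ℤ)
  have hY1 : T.Y.card = 1 := T.card_Y
  obtain ⟨φ, hφ⟩ := Finset.card_eq_one.1 hY1
  have hφm : φ ∈ T.Y := by rw [hφ]; exact Finset.mem_singleton_self _
  have hZ4 : Z.card = 4 := by
    rw [hZdef, Finset.card_union_of_disjoint T.disjoint, hY1]
    have := T.card_X; omega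
  have hsgY : ∀ x ∈ T.Y, sg x = -T.ε := fun x hx =>
    if_neg fun hx' => Finset.disjoint_left.1 T.disjoint hx' hx
  have hsgX : ∀ x ∈ T.X, sg x = T.εX x := fun x hx => if_pos hx
  have hsign : ∀ x ∈ Z, sg x = 1 ∨ sg x = -1 := by
    intro x hx
    rcases Finset.mem_union.1 hx with hm | hm
    · rw [hsgX x hm]; exact T.sign_X x hm
    · rw [hsgY x hm]; rcases T.sign with s | s <;> rw [s] <;> norm_num
  have hmod : ∀ x ∈ Z, f x % 5 = 1 := by
    intro x hx
    obtain ⟨-, hX, hY⟩ := five_prime h45 (by norm_num) T hx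
    simp only [f]
    rcases Finset.mem_union.1 hx with hm | hm
    · rw [hsgX x hm]; exact hX hm
    · have := hY hm
      rw [hsgY x hm, neg_mul]
      push_cast at this
      omega
  have hrelZ : ∀ g : G, ¬ 5 ∣ orderOf g → 1 + ∑ x ∈ Z, (sg x : ℂ) * (x : G → ℂ) g = 0 := by
    intro g hg
    rw [hZdef, Finset.sum_union T.disjoint, hφ, Finset.sum_singleton, hsgY φ hφm,
      Finset.sum_congr rfl fun x hx => by rw [hsgX x hx]]
    have hr := T.relation φ hφm g hg
    push_cast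
    linear_combination -hr
  have hf0 : 1 + ∑ x ∈ Z, f x = 0 := by
    have hr := hrelZ 1 (by rw [orderOf_one]; norm_num)
    simp only [val_one] at hr
    simp only [f]
    exact_mod_cast hr
  have hQval : ∀ y ∈ (Q : Subgroup G), y ≠ 1 → (∀ x ∈ Z, (x : G → ℂ) y = (sg x : ℂ)) ∧
      ∀ x : IrrCharacter G, x ≠ oneChar G → x ∉ Z → (x : G → ℂ) y = 0 := by
    intro y hy hy1
    refine ⟨fun x hx => ?_, fun x h1 hx => ?_⟩
    · rcases Finset.mem_union.1 hx with hm | hm
      · have hv := T.value_X x hm y hy hy1 1 (one_mem _) (by rw [orderOf_one]; norm_num)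
        rw [mul_one] at hv
        rw [hv, hsgX x hm]
      · have hv := T.value_Y y hy hy1 1 (one_mem _) (by rw [orderOf_one]; norm_num)
        rw [hφ, Finset.sum_singleton, mul_one] at hv
        rw [hφ, Finset.mem_singleton] at hm
        subst hm
        rw [hv, hsgY _ hφm, Int.cast_neg]
    · rw [hZdef, Finset.mem_union, not_or] at hx
      exact T.outside hQC x h1 hx.1 hx.2 y hy hy1
  -- the two characters of degree 16
  have hY2 : S.Y.card = 2 := S.card_Y
  have hsub : Z.filter (fun x => ¬ 11 ∣ dg x) ⊆ S.Y := by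
    intro x hx
    rw [Finset.mem_filter] at hx
    have hx16 := h16 x hx.1 hx.2
    by_contra hY
    have hne : x ≠ oneChar G := fun e => by rw [e, dg_one] at hx16; norm_num at hx16
    by_cases hX : x ∈ S.X
    · rw [hXeq] at hX
      simp only [List.mem_toFinset, List.mem_cons, List.not_mem_nil, or_false] at hX
      rcases hX with rfl | rfl | rfl | rfl <;> omega
    · exact hx.2 (eleven_outside hP hC S x hne hX hY)
  have hf16 : ∀ x ∈ Z.filter (fun x => ¬ 11 ∣ dg x), f x = 16 := by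
    intro x hx
    rw [Finset.mem_filter] at hx
    have := hmod x hx.1
    simp only [f, h16 x hx.1 hx.2] at this ⊢
    rcases hsign x hx.1 with s | s <;> rw [s] at this ⊢ <;> omega
  have hsplit : ∑ x ∈ Z.filter (fun x => 11 ∣ dg x), f x +
      16 * ((Z.filter fun x => ¬ 11 ∣ dg x).card : ℤ) + 1 = 0 := by
    rw [← Finset.sum_filter_add_sum_filter_not Z (fun x => 11 ∣ dg x), Finset.sum_congr rfl hf16,
      Finset.sum_const, nsmul_eq_mul] at hf0
    linarith
  have h11f : (11 : ℤ) ∣ ∑ x ∈ Z.filter (fun x => 11 ∣ dg x), f x := Finset.dvd_sum fun x hx => by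
    refine dvd_mul_of_dvd_right ?_ _
    exact_mod_cast (Finset.mem_filter.1 hx).2
  have hi : (Z.filter fun x => ¬ 11 ∣ dg x).card = 2 := by
    have := Finset.card_le_card hsub
    omega
  have hYZ : Z.filter (fun x => ¬ 11 ∣ dg x) = S.Y := Finset.eq_of_subset_of_card_le hsub (by omega)
  obtain ⟨θ₁, θ₂, hθne, hθeq⟩ := Finset.card_eq_two.1 hY2
  have hZ2 : (Z.filter fun x => 11 ∣ dg x).card = 2 := by
    have := Finset.card_filter_add_card_filter_not (s := Z) (fun x => 11 ∣ dg x)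
    omega
  obtain ⟨A, B, hABne, hABeq⟩ := Finset.card_eq_two.1 hZ2
  rw [hABeq, Finset.sum_pair hABne, hi] at hsplit
  -- the nine known characters
  set nine : Finset (IrrCharacter G) := {oneChar G} ∪ S.X ∪ S.Y ∪ {A, B} with hnine
  have h11not : ∀ x ∈ {oneChar G} ∪ S.X ∪ S.Y, ¬ 11 ∣ dg x := by
    intro x hx
    rw [hXeq, hθeq] at hx
    simp only [Finset.mem_union, Finset.mem_singleton, Finset.mem_insert, List.mem_toFinset,
      List.mem_cons, List.not_mem_nil, or_false] at hx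
    rcases hx with (rfl | rfl | rfl | rfl | rfl) | rfl | rfl
    · rw [dg_one]; norm_num
    · omega
    · omega
    · omega
    · omega
    · rw [show dg x = S.D from S.degree_Y x (by rw [hθeq]; simp), hD]; norm_num
    · rw [show dg x = S.D from S.degree_Y x (by rw [hθeq]; simp), hD]; norm_num
  have hAm : A ∈ Z.filter (fun x => 11 ∣ dg x) := by rw [hABeq]; simp
  have hBm : B ∈ Z.filter (fun x => 11 ∣ dg x) := by rw [hABeq]; simp
  rw [Finset.mem_filter] at hAm hBm
  have hdis : Disjoint ({oneChar G} ∪ S.X ∪ S.Y) ({A, B} : Finset (IrrCharacter G)) := by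
    rw [Finset.disjoint_left]
    intro x hx hx'
    rcases Finset.mem_insert.1 hx' with rfl | hx'
    · exact h11not _ hx hAm.2
    · rw [Finset.mem_singleton] at hx'
      subst hx'
      exact h11not _ hx hBm.2
  have hd1 : Disjoint ({oneChar G} : Finset (IrrCharacter G)) S.X :=
    Finset.disjoint_singleton_left.2 S.one_notMem_X
  have hd2 : Disjoint ({oneChar G} ∪ S.X) S.Y :=
    Finset.disjoint_union_left.2 ⟨Finset.disjoint_singleton_left.2 S.one_notMem_Y, S.disjoint⟩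
  have hX4 : S.X.card = 4 := by have := S.card_X; omega
  have hnine9 : nine.card = 9 := by
    rw [hnine, Finset.card_union_of_disjoint hdis, Finset.card_union_of_disjoint hd2,
      Finset.card_union_of_disjoint hd1, Finset.card_singleton, hX4, hY2, Finset.card_pair hABne]
  have hnine_sq : ∑ x ∈ nine, dg x ^ 2 = 2838 + dg A ^ 2 + dg B ^ 2 := by
    rw [hnine, Finset.sum_union hdis, Finset.sum_union hd2, Finset.sum_union hd1, Finset.sum_singleton,
      Finset.sum_pair hABne, dg_one, hXeq, List.sum_toFinset _ hnd,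
      Finset.sum_congr rfl (fun x hx => show dg x ^ 2 = 16 ^ 2 by rw [show dg x = S.D from S.degree_Y x hx, hD]),
      Finset.sum_const, hY2]
    simp [da, db, dc, dd]
    ring
  have htot : ∑ x ∈ nine, dg x ^ 2 + ∑ x ∈ nineᶜ, dg x ^ 2 = 7920 := by
    rw [Finset.sum_add_sum_compl, sum_dg_sq, h]
  have hbound : ∀ x ∈ ({A, B} : Finset (IrrCharacter G)), dg x ≤ 71 := by
    intro x hx
    rw [hnine_sq] at htot
    simp only [Finset.mem_insert, Finset.mem_singleton] at hx
    by_contra hlt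
    have hp : 72 ^ 2 ≤ dg x ^ 2 := Nat.pow_le_pow_left (by omega) 2
    rcases hx with rfl | rfl <;> omega
  have habs : ∀ x ∈ Z, 11 ∣ dg x → dg x ≤ 71 → -71 ≤ f x ∧ f x ≤ 71 ∧ (11 : ℤ) ∣ f x ∧ f x % 5 = 1 := by
    intro x hx h11 hle
    have hm := hmod x hx
    have hd' : (11 : ℤ) ∣ (dg x : ℤ) := by exact_mod_cast h11
    refine ⟨?_, ?_, dvd_mul_of_dvd_right hd' _, hm⟩ <;>
      (simp only [f]; rcases hsign x hx with s | s <;> rw [s] <;> omega)
  obtain ⟨a1, a2, a3, a4⟩ := habs A hAm.1 hAm.2 (hbound A (by simp))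
  obtain ⟨b1, b2, b3, b4⟩ := habs B hBm.1 hBm.2 (hbound B (by simp))
  have key : (f A = 11 ∧ f B = -44) ∨ (f A = -44 ∧ f B = 11) := by omega
  obtain ⟨A, B, hABne, hABeq, fA, fB⟩ : ∃ A' B', A' ≠ B' ∧
      Z.filter (fun x => 11 ∣ dg x) = {A', B'} ∧ f A' = 11 ∧ f B' = -44 := by
    rcases key with ⟨u, v⟩ | ⟨u, v⟩
    · exact ⟨A, B, hABne, hABeq, u, v⟩
    · exact ⟨B, A, hABne.symm, by rw [hABeq, Finset.pair_comm], v, u⟩
  have hAm : A ∈ Z ∧ 11 ∣ dg A := Finset.mem_filter.1 (hABeq ▸ Finset.mem_insert_self A {B} : A ∈ Z.filter (fun x => 11 ∣ dg x))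
  have hBm : B ∈ Z ∧ 11 ∣ dg B := Finset.mem_filter.1
    (hABeq ▸ Finset.mem_insert_of_mem (Finset.mem_singleton_self B) : B ∈ Z.filter (fun x => 11 ∣ dg x))
  have sA : sg A = 1 ∧ dg A = 11 := by
    simp only [f] at fA
    rcases hsign A hAm.1 with s | s <;> rw [s] at fA <;> omega
  have sB : sg B = -1 ∧ dg B = 44 := by
    simp only [f] at fB
    rcases hsign B hBm.1 with s | s <;> rw [s] at fB <;> omega
  have hpair : ({oneChar G} ∪ S.X ∪ S.Y ∪ {A, B} : Finset (IrrCharacter G)).card = 9 ∧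
      ∑ x ∈ ({oneChar G} ∪ S.X ∪ S.Y ∪ {A, B} : Finset (IrrCharacter G)), dg x ^ 2 = 4895 := by
    have hdis : Disjoint ({oneChar G} ∪ S.X ∪ S.Y) ({A, B} : Finset (IrrCharacter G)) := by
      rw [Finset.disjoint_left]
      intro x hx hx'
      rcases Finset.mem_insert.1 hx' with rfl | hx'
      · exact h11not _ hx hAm.2
      · rw [Finset.mem_singleton] at hx'
        subst hx'
        exact h11not _ hx hBm.2
    refine ⟨by rw [Finset.card_union_of_disjoint hdis, Finset.card_union_of_disjoint hd2,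
      Finset.card_union_of_disjoint hd1, Finset.card_singleton, hX4, hY2, Finset.card_pair hABne], ?_⟩
    rw [Finset.sum_union hdis, Finset.sum_union hd2, Finset.sum_union hd1, Finset.sum_singleton,
      Finset.sum_pair hABne, dg_one, sA.2, sB.2, hXeq, List.sum_toFinset _ hnd,
      Finset.sum_congr rfl (fun x hx => show dg x ^ 2 = 16 ^ 2 by rw [show dg x = S.D from S.degree_Y x hx, hD]),
      Finset.sum_const, hY2]
    simp [da, db, dc, dd]
  clear_value nine
  clear htot hnine_sq hnine9 hnine nine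
  set N9 : Finset (IrrCharacter G) := {oneChar G} ∪ S.X ∪ S.Y ∪ {A, B} with hN9
  have hrest : ∀ x, x ∉ N9 → x ∉ Z ∧ 55 ∣ dg x := by
    intro x hx
    simp only [hN9, Finset.mem_union, Finset.mem_singleton, Finset.mem_insert, not_or] at hx
    obtain ⟨⟨⟨h1, hX⟩, hY⟩, hA', hB'⟩ := hx
    have h11 := eleven_outside hP hC S x h1 hX hY
    have hnZ : x ∉ Z := fun hZ => by
      have : x ∈ ({A, B} : Finset (IrrCharacter G)) := hABeq ▸ Finset.mem_filter.2 ⟨hZ, h11⟩
      simp [hA', hB'] at this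
    have h5 : 5 ∣ dg x := dvd_dg_of_zero hQ x fun y hy hy1 => (hQval y hy hy1).2 x h1 hnZ
    exact ⟨hnZ, Nat.Coprime.mul_dvd_of_dvd_of_dvd (by norm_num) h11 h5⟩
  have htot : ∑ x ∈ N9, dg x ^ 2 + ∑ x ∈ N9ᶜ, dg x ^ 2 = 7920 := by
    rw [Finset.sum_add_sum_compl, sum_dg_sq, h]
  rw [hpair.2] at htot
  obtain ⟨W, hW⟩ : N9ᶜ.Nonempty := Finset.nonempty_iff_ne_empty.2 fun e => by
    rw [e, Finset.sum_empty] at htot; omega
  have hW55 : 55 ≤ dg W := Nat.le_of_dvd (dg_pos W) (hrest W (Finset.mem_compl.1 hW)).2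
  have hWu : ∀ x, x ∉ N9 → x = W := by
    intro x hx
    by_contra hne
    have h55 : 55 ≤ dg x := Nat.le_of_dvd (dg_pos x) (hrest x hx).2
    have := Finset.sum_le_sum_of_subset (f := fun x : IrrCharacter G => dg x ^ 2)
      (show ({x, W} : Finset (IrrCharacter G)) ⊆ N9ᶜ by
        intro y hy
        rcases Finset.mem_insert.1 hy with rfl | hy
        · exact Finset.mem_compl.2 hx
        · rw [Finset.mem_singleton] at hy; exact hy ▸ hW)
    rw [Finset.sum_pair hne] at this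
    nlinarith
  have hWc : N9ᶜ = {W} := Finset.eq_singleton_iff_unique_mem.2
    ⟨hW, fun x hx => hWu x (Finset.mem_compl.1 hx)⟩
  have dW : dg W = 55 := by
    rw [hWc, Finset.sum_singleton] at htot
    nlinarith
  have hcard : Fintype.card (IrrCharacter G) = 10 := by
    rw [← Finset.card_add_card_compl N9, hpair.1, hWc, Finset.card_singleton]
  refine ⟨![oneChar G, a, b, c, d, θ₁, θ₂, A, B, W], Q, ?_⟩
  have hθ₁ : θ₁ ∈ S.Y := by rw [hθeq]; simp
  have hθ₂ : θ₂ ∈ S.Y := by rw [hθeq]; simp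
  have hθZ : ∀ x ∈ S.Y, x ∈ Z ∧ sg x = 1 := by
    intro x hx
    have hx' : x ∈ Z.filter (fun x => ¬ 11 ∣ dg x) := hYZ.symm ▸ hx
    have hf := hf16 x hx'
    refine ⟨(Finset.mem_filter.1 hx').1, ?_⟩
    simp only [f, show dg x = S.D from S.degree_Y x hx, hD] at hf
    omega
  have hnotZ : ∀ x ∈ S.X, x ∉ Z := by
    intro x hx hZ
    refine (five_prime h45 (by norm_num) T hZ).1 ?_
    rw [hXeq] at hx
    simp only [List.mem_toFinset, List.mem_cons, List.not_mem_nil, or_false] at hx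
    rcases hx with rfl | rfl | rfl | rfl <;> omega
  have hZeq : Z = ({A, B} : Finset (IrrCharacter G)) ∪ {θ₁, θ₂} := by
    rw [← hABeq, ← hθeq, ← hYZ, Finset.filter_union_filter_not_eq]
  constructor
  case bij =>
    refine (Fintype.bijective_iff_surjective_and_card _).2 ⟨fun x => ?_, by rw [hcard, Fintype.card_fin]⟩
    by_cases hx : x ∈ N9
    · simp only [hN9, hXeq, hθeq, Finset.mem_union, Finset.mem_singleton, Finset.mem_insert,
        List.mem_toFinset, List.mem_cons, List.not_mem_nil, or_false] at hx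
      rcases hx with ((rfl | rfl | rfl | rfl | rfl) | rfl | rfl) | rfl | rfl
      · exact ⟨0, rfl⟩
      · exact ⟨1, rfl⟩
      · exact ⟨2, rfl⟩
      · exact ⟨3, rfl⟩
      · exact ⟨4, rfl⟩
      · exact ⟨5, rfl⟩
      · exact ⟨6, rfl⟩
      · exact ⟨7, rfl⟩
      · exact ⟨8, rfl⟩
    · exact ⟨9, (hWu x hx).symm⟩
  case deg =>
    intro i
    fin_cases i
    · exact dg_one
    · exact da
    · exact db
    · exact dc
    · exact dd
    · exact (show dg θ₁ = S.D from S.degree_Y θ₁ hθ₁).trans hD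
    · exact (show dg θ₂ = S.D from S.degree_Y θ₂ hθ₂).trans hD
    · exact sA.2
    · exact sB.2
    · exact dW
  case one => exact fun g => rfl
  case card_Q => exact hQ
  case cent_Q => exact hQC
  case norm_Q => exact hQN
  case invol =>
    intro u hu
    obtain ⟨ra, rb, rc, va, vb, vc, vd, vθ, e1, e2⟩ := hA u hu a b c d hnd hXeq ha hb hc hd hD hε
    exact ⟨ra, rb, rc, va, vb, vc, vd, vθ θ₁ hθ₁, vθ θ₂ hθ₂, e1, e2⟩
  case rel_eleven =>
    intro g hg
    refine ⟨S.regular_Y θ₂ hθ₂ θ₁ hθ₁ g hg, ?_⟩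
    have hr := S.relation θ₁ hθ₁ g hg
    have hs : ∀ x ∈ S.X, ∀ z : ℤ, sd S x = z → (S.εX x : ℂ) = if 0 < z then 1 else -1 := by
      intro x hx z hz
      have := dg_pos x
      simp only [sd] at hz
      rcases S.sign_X x hx with s | s <;> rw [s] at hz ⊢ <;> subst hz
      · rw [if_pos (by omega)]; simp
      · rw [if_neg (by omega)]; simp
    have qa := hs a (mem a (by simp)) _ ha
    have qb := hs b (mem b (by simp)) _ hb
    have qc := hs c (mem c (by simp)) _ hc
    have qd := hs d (mem d (by simp)) _ hd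
    norm_num at qa qb qc qd
    rw [hXeq, List.sum_toFinset _ hnd] at hr
    simp only [List.map_cons, List.map_nil, List.sum_cons, List.sum_nil, qa, qb, qc, qd, hε,
      Int.cast_one] at hr
    show (θ₁ : G → ℂ) g = 1 - (a : G → ℂ) g - (b : G → ℂ) g - (c : G → ℂ) g + (d : G → ℂ) g
    linear_combination hr
  case rel_five =>
    intro g hg
    have hr := hrelZ g hg
    have hdd : Disjoint ({A, B} : Finset (IrrCharacter G)) {θ₁, θ₂} := by
      rw [← hABeq, ← hθeq, ← hYZ]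
      exact Finset.disjoint_filter_filter_not _ _ _
    rw [hZeq, Finset.sum_union hdd, Finset.sum_pair hABne, Finset.sum_pair hθne, sA.1, sB.1,
      (hθZ θ₁ hθ₁).2, (hθZ θ₂ hθ₂).2] at hr
    push_cast at hr
    show 1 + (θ₁ : G → ℂ) g + (θ₂ : G → ℂ) g + (A : G → ℂ) g - (B : G → ℂ) g = 0
    linear_combination hr
  case at_five =>
    intro y hy hy1
    obtain ⟨hin, hout⟩ := hQval y hy hy1
    have hne : ∀ x ∈ S.X, x ≠ oneChar G := fun x hx e => S.one_notMem_X (e ▸ hx)
    refine ⟨hout a (hne a (mem a (by simp))) (hnotZ a (mem a (by simp))),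
      hout b (hne b (mem b (by simp))) (hnotZ b (mem b (by simp))),
      hout c (hne c (mem c (by simp))) (hnotZ c (mem c (by simp))),
      hout d (hne d (mem d (by simp))) (hnotZ d (mem d (by simp))),
      ?_, ?_, ?_, ?_, ?_⟩
    · show (θ₁ : G → ℂ) y = 1
      rw [hin θ₁ (hθZ θ₁ hθ₁).1, (hθZ θ₁ hθ₁).2, Int.cast_one]
    · show (θ₂ : G → ℂ) y = 1
      rw [hin θ₂ (hθZ θ₂ hθ₂).1, (hθZ θ₂ hθ₂).2, Int.cast_one]
    · show (A : G → ℂ) y = 1
      rw [hin A hAm.1, sA.1, Int.cast_one]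
    · show (B : G → ℂ) y = -1
      rw [hin B hBm.1, sB.1]
      norm_num
    · show (W : G → ℂ) y = 0
      refine hout W (fun e => ?_) (hrest W (Finset.mem_compl.1 hW)).1
      rw [e, dg_one] at dW
      norm_num at dW

end CfsgLib.Char.MEleven.Order
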