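import Cfsg.Agent.Lib.Char.MEleven.Order.Five

/-!
# Simple groups of order 7920: the involutions
-/

set_option autoImplicit false
set_option linter.all false

open Cfsg CfsgLib.Perm.PrimeBlock CfsgLib.Block Finset
open scoped ComplexConjugate

namespace CfsgLib.Char.MEleven.Order

universe u

variable {G : Type u} [Group G] [Finite G] [IsSimpleGroup G] [Fintype G]
  {χ : Fin 10 → IrrCharacter G} {Q : Sylow 5 G}

theorem Table.sum_eq [Fintype (IrrCharacter G)] (T : Table χ Q) (f : IrrCharacter G → ℂ) :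
    ∑ x : IrrCharacter G, f x = f (χ 0) + f (χ 1) + f (χ 2) + f (χ 3) + f (χ 4) + f (χ 5) + f (χ 6) +
      f (χ 7) + f (χ 8) + f (χ 9) := by
  rw [← T.bij.sum_comp f]
  simp [Fin.sum_univ_succ, add_assoc]

theorem Table.ne_one (T : Table χ Q) {i : Fin 10} (hi : i ≠ 0) : χ i ≠ oneChar G := by
  intro e
  have h1 := T.deg i
  rw [e, dg_one] at h1
  exact (by decide : ∀ i : Fin 10, i ≠ 0 → 1 ≠ degs i) i hi h1

/-- The values at an involution. -/
structure InvVals (χ : Fin 10 → IrrCharacter G) (w : G) (ra rb rc : ℤ) : Prop where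
  v1 : (χ 1 : G → ℂ) w = ra
  v2 : (χ 2 : G → ℂ) w = rb
  v3 : (χ 3 : G → ℂ) w = rc
  v4 : (χ 4 : G → ℂ) w = -3
  v5 : (χ 5 : G → ℂ) w = 0
  v6 : (χ 6 : G → ℂ) w = 0
  v7 : (χ 7 : G → ℂ) w = 3
  v8 : (χ 8 : G → ℂ) w = 4
  v9 : (χ 9 : G → ℂ) w = -1
  hsum : ra + rb + rc = -2
  sqa : ra * ra = 4
  sqb : rb * rb = 4
  sqc : rc * rc = 4

set_option maxHeartbeats 1000000 in
/-- Every involution has centralizer of order 48. -/
theorem Table.invol_data (T : Table χ Q) (h : Nat.card G = 7920) {w : G} (hw : orderOf w = 2) :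
    (∃ ra rb rc : ℤ, InvVals χ w ra rb rc) ∧
      Nat.card (Subgroup.centralizer ({w} : Set G)) = 48 := by
  classical
  haveI : Fact (Nat.Prime 5) := ⟨by norm_num⟩
  haveI := Fintype.ofFinite (IrrCharacter G)
  have hG := noncomm h
  have hw1 : w ≠ 1 := fun e => by rw [e, orderOf_one] at hw; norm_num at hw
  obtain ⟨ra, rb, rc, va, vb, vc, v4, v5, v6, hs, hq⟩ := T.invol w hw
  obtain ⟨A, vA, lA, fA⟩ := value_invol hG (χ 7) (T.ne_one (by decide)) hw
  obtain ⟨W, vW, -, -⟩ := value_invol hG (χ 9) (T.ne_one (by decide)) hw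
  rw [T.deg 7, show degs 7 = 11 from rfl] at lA fA
  have vB : (χ 8 : G → ℂ) w = ((1 + A : ℤ) : ℂ) := by
    have hr := T.rel_five w (by rw [hw]; norm_num)
    rw [v5, v6, vA] at hr
    push_cast
    linear_combination -hr
  have hd : ∀ i, (χ i : G → ℂ) 1 = (degs i : ℂ) := fun i => by rw [val_one, T.deg]
  have hW : W = 2 - A := by
    have ho := CfsgLib.Char.sum_irr_mul_conj w 1
    rw [if_neg (fun e => hw1 (by simpa using e)), T.sum_eq] at ho
    simp only [hd, Complex.conj_natCast, degs, T.one, va, vb, vc, v4, v5, v6, vA, vB, vW] at ho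
    simp only [Matrix.cons_val] at ho
    push_cast at ho
    have hsc : (ra : ℂ) + rb + rc = -2 := by exact_mod_cast hs
    suffices hh : ((55 * W : ℤ) : ℂ) = ((55 * (2 - A) : ℤ) : ℂ) by
      have : 55 * W = 55 * (2 - A) := by exact_mod_cast hh
      omega
    push_cast
    linear_combination ho - 10 * hsc
  subst hW
  set c := Nat.card (Subgroup.centralizer ({w} : Set G)) with hc
  have hcol : (c : ℤ) = 27 + 3 * A * A - 2 * A := by
    have ho := CfsgLib.Char.sum_irr_mul_conj w w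
    rw [if_pos (IsConj.refl w), T.sum_eq] at ho
    simp only [T.one, va, vb, vc, v4, v5, v6, vA, vB, vW, map_intCast, map_one, map_zero, ← hc] at ho
    suffices hh : ((c : ℤ) : ℂ) = ((27 + 3 * A * A - 2 * A : ℤ) : ℂ) by exact_mod_cast hh
    have hqc : (ra : ℂ) * ra + rb * rb + rc * rc = 12 := by exact_mod_cast hq
    push_cast at ho ⊢
    linear_combination -ho + hqc
  -- the class multiplication coefficient at an element of order five
  obtain ⟨y', hy'⟩ := exists_prime_orderOf_dvd_card' (G := (Q : Subgroup G)) 5 (by rw [T.card_Q])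
  have hy : (y' : G) ∈ (Q : Subgroup G) := y'.2
  have hy1 : (y' : G) ≠ 1 := fun e => by
    rw [← Subgroup.orderOf_coe, e, orderOf_one] at hy'; norm_num at hy'
  obtain ⟨w1, w2, w3, w4, w5, w6, w7, w8, w9⟩ := T.at_five _ hy hy1
  have hk : CfsgLib.Char.classConst w w (y' : G) = 0 ∨ CfsgLib.Char.classConst w w (y' : G) = 5 := by
    rcases Nat.eq_zero_or_pos (CfsgLib.Char.classConst w w (y' : G)) with h0 | h0
    · exact Or.inl h0
    refine Or.inr ?_
    obtain ⟨⟨a, b⟩, ha, hb, hab⟩ := (Nat.card_pos_iff.1 h0).1.some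
    simp only at ha hb hab
    obtain ⟨h1, -, hinv, -⟩ := pair_inverts hw ha hb hab
    rw [inv_eq_of_mul_eq_one_left h1] at hinv
    refine Eq.trans ?_ (classConst_eq_of_inverting (by norm_num) T.card_Q T.cent_Q hy hy1 h1 hinv)
    exact Nat.card_congr (Equiv.subtypeEquivRight fun q =>
      ⟨fun h => ⟨ha.symm.trans h.1, ha.symm.trans h.2.1, h.2.2⟩,
        fun h => ⟨ha.trans h.1, ha.trans h.2.1, h.2.2⟩⟩)
  have hm := class_mul w w (y' : G)
  rw [T.sum_eq] at hm
  simp only [T.deg, degs, T.one, va, vb, vc, v4, v5, v6, vA, vB, vW, w1, w2, w3, w4, w5, w6, w7, w8, w9,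
    map_one, map_zero, map_neg, ← hc, h] at hm
  simp only [Matrix.cons_val] at hm
  set k := CfsgLib.Char.classConst w w (y' : G)
  have heq : 44 * (k : ℤ) * c * c = 7920 * (43 + 3 * A * A - 2 * A) := by
    suffices hh : ((44 * (k : ℤ) * c * c : ℤ) : ℂ) = ((7920 * (43 + 3 * A * A - 2 * A) : ℤ) : ℂ) by
      exact_mod_cast hh
    push_cast at hm ⊢
    linear_combination 44 * hm
  have hA : A = 3 := by
    have hA5 : A = -9 ∨ A = -5 ∨ A = -1 ∨ A = 3 ∨ A = 7 := by omega
    rcases hk with e | e <;> rw [e, hcol] at heq <;>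
      rcases hA5 with rfl | rfl | rfl | rfl | rfl <;> first | rfl | (norm_num at heq)
  subst hA
  have hsq : ∀ i : Fin 10, i = 1 ∨ i = 2 ∨ i = 3 → ∀ r : ℤ, (χ i : G → ℂ) w = r → 4 ≤ r * r := by
    intro i hi r hr
    obtain ⟨r', hr', -, h4⟩ := value_invol hG (χ i) (T.ne_one (by rcases hi with rfl | rfl | rfl <;> decide)) hw
    have e : r = r' := by rw [hr] at hr'; exact_mod_cast hr'
    subst e
    rw [T.deg, show degs i = 10 from by rcases hi with rfl | rfl | rfl <;> rfl] at h4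
    have h2 : r ≤ -2 ∨ 2 ≤ r := by omega
    rcases h2 with h2 | h2 <;> nlinarith
  have q1 := hsq 1 (Or.inl rfl) ra va
  have q2 := hsq 2 (Or.inr (Or.inl rfl)) rb vb
  have q3 := hsq 3 (Or.inr (Or.inr rfl)) rc vc
  refine ⟨⟨ra, rb, rc, ⟨va, vb, vc, ?_, v5, v6, ?_, ?_, ?_, hs, by omega, by omega, by omega⟩⟩, by omega⟩
  · rw [v4]; norm_num
  · rw [vA]; norm_num
  · rw [vB]; norm_num
  · rw [vW]; norm_num

/-- The involutions are conjugate. -/
theorem Table.invol_conj (T : Table χ Q) (h : Nat.card G = 7920) {v w : G} (hv : orderOf v = 2)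
    (hw : orderOf w = 2) : IsConj v w := by
  classical
  haveI := Fintype.ofFinite (IrrCharacter G)
  by_contra hne
  obtain ⟨⟨a, b, c, V⟩, -⟩ := T.invol_data h hv
  obtain ⟨⟨a', b', c', W⟩, -⟩ := T.invol_data h hw
  have ho := CfsgLib.Char.sum_irr_mul_conj v w
  rw [if_neg hne, T.sum_eq] at ho
  simp only [T.one, V.v1, V.v2, V.v3, V.v4, V.v5, V.v6, V.v7, V.v8, V.v9, W.v1, W.v2, W.v3, W.v4,
    W.v5, W.v6, W.v7, W.v8, W.v9, map_intCast, map_one, map_zero, map_neg, map_ofNat] at ho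
  have e : a * a' + b * b' + c * c' + 36 = 0 := by
    suffices hh : ((a * a' + b * b' + c * c' + 36 : ℤ) : ℂ) = 0 by exact_mod_cast hh
    push_cast
    linear_combination ho
  nlinarith [sq_nonneg (a + a'), sq_nonneg (b + b'), sq_nonneg (c + c'), V.sqa, V.sqb, V.sqc, W.sqa,
    W.sqb, W.sqc]

/-- An involution commutes with exactly twelve others. -/
theorem Table.count_invol (T : Table χ Q) (h : Nat.card G = 7920) {w : G} (hw : orderOf w = 2) :
    Nat.card {a : G // orderOf a = 2 ∧ a * w = w * a ∧ a ≠ w} = 12 := by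
  classical
  haveI := Fintype.ofFinite (IrrCharacter G)
  obtain ⟨⟨ra, rb, rc, V⟩, hC⟩ := T.invol_data h hw
  have hm := class_mul w w w
  rw [T.sum_eq] at hm
  simp only [T.deg, degs, T.one, V.v1, V.v2, V.v3, V.v4, V.v5, V.v6, V.v7, V.v8, V.v9, hC, h,
    map_intCast, map_one, map_zero, map_neg, map_ofNat] at hm
  simp only [Matrix.cons_val] at hm
  have hk : CfsgLib.Char.classConst w w w = 12 := by
    have e1 : (ra : ℂ) * ra = 4 := by exact_mod_cast V.sqa
    have e2 : (rb : ℂ) * rb = 4 := by exact_mod_cast V.sqb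
    have e3 : (rc : ℂ) * rc = 4 := by exact_mod_cast V.sqc
    have es : (ra : ℂ) + rb + rc = -2 := by exact_mod_cast V.hsum
    rw [e1, e2, e3] at hm
    suffices hh : (CfsgLib.Char.classConst w w w : ℂ) = 12 by exact_mod_cast hh
    push_cast at hm
    linear_combination (1 / 2304 : ℂ) * hm + (11 / 8 : ℂ) * es
  rw [← hk, CfsgLib.Char.classConst]
  have hw2 : w * w = 1 := by rw [← pow_two, ← hw, pow_orderOf_eq_one]
  refine Nat.card_congr
    { toFun := fun a => ⟨(a.1, a.1 * w), T.invol_conj h hw a.2.1, ?_, ?_⟩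
      invFun := fun q => ⟨q.1.1, ?_, ?_, ?_⟩
      left_inv := fun a => Subtype.ext rfl
      right_inv := fun q => ?_ }
  · have ha2 : (a.1 : G) * a.1 = 1 := by
      rw [← pow_two]; exact orderOf_dvd_iff_pow_eq_one.1 a.2.1.dvd
    refine T.invol_conj h hw (orderOf_eq_prime ?_ fun e => a.2.2.2 ?_)
    · rw [pow_two, mul_assoc, ← mul_assoc w, ← a.2.2.1, mul_assoc a.1, hw2, mul_one, ha2]
    · have e' : a.1 * w = 1 := e
      exact mul_left_cancel (ha2.trans e'.symm)
  · have ha2 : (a.1 : G) * a.1 = 1 := by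
      rw [← pow_two]; exact orderOf_dvd_iff_pow_eq_one.1 a.2.1.dvd
    show a.1 * (a.1 * w) = w
    rw [← mul_assoc, ha2, one_mul]
  · exact (pair_inverts hw q.2.1 q.2.2.1 q.2.2.2).2.2.2
  · obtain ⟨-, -, hinv, -⟩ := pair_inverts hw q.2.1 q.2.2.1 q.2.2.2
    rw [inv_eq_of_mul_eq_one_left hw2] at hinv
    exact mul_inv_eq_iff_eq_mul.1 hinv
  · intro e
    obtain ⟨-, hb2, -, -⟩ := pair_inverts hw q.2.1 q.2.2.1 q.2.2.2
    obtain ⟨g, hg⟩ := isConj_iff.1 q.2.2.1
    have hb : q.1.2 = 1 := by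
      have h1 := q.2.2.2
      rw [e] at h1
      exact mul_left_cancel (a := w) (h1.trans (mul_one w).symm)
    rw [hb] at hg
    have : w = 1 := by simpa using hg
    rw [this, orderOf_one] at hw
    norm_num at hw
  · obtain ⟨ha, -, -, -⟩ := pair_inverts hw q.2.1 q.2.2.1 q.2.2.2
    refine Subtype.ext (Prod.ext rfl ?_)
    show q.1.1 * w = q.1.2
    calc q.1.1 * w = q.1.1 * (q.1.1 * q.1.2) := (congrArg (q.1.1 * ·) q.2.2.2).symm
      _ = q.1.2 := by rw [← mul_assoc, ha, one_mul]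

end CfsgLib.Char.MEleven.Order
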