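import Cfsg.Agent.Lib.Char.MEleven.Order.GL
import Cfsg.Agent.Lib.Char.MEleven.Uniq

/-!
# A simple group of order 7920 is `M₁₁`
-/

set_option autoImplicit false
set_option linter.all false

open Subgroup

namespace CfsgLib.Char.MEleven.Order

theorem cent_iso_of_simple {G : Type*} [Group G] [Finite G] [IsSimpleGroup G] (h : Nat.card G = 7920)
    {t : G} (ht : orderOf t = 2) : Nonempty (centralizer ({t} : Set G) ≃* GL (Fin 2) (ZMod 3)) :=
  (ghyp h).cent_iso ht

/-- A simple group of order 7920 is `M₁₁`. -/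
theorem iso_m11_of_simple {G : Type*} [Group G] [Finite G] [IsSimpleGroup G] (h : Nat.card G = 7920) :
    Nonempty (G ≃* ↥Cfsg.Spor.M11) := by
  haveI : Fact (Nat.Prime 2) := ⟨Nat.prime_two⟩
  obtain ⟨t, ht⟩ := exists_prime_orderOf_dvd_card' (G := G) 2 (by rw [h]; norm_num)
  obtain ⟨e⟩ := cent_iso_of_simple h ht
  refine iso_m11 t ht e h fun H hH => ?_
  haveI := normal_of_index_eq_two hH
  rcases Normal.eq_bot_or_eq_top (H := H) inferInstance with rfl | rfl
  · rw [index_bot, h] at hH; norm_num at hH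
  · rw [index_top] at hH; norm_num at hH

end CfsgLib.Char.MEleven.Order
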