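import Cfsg.Agent.Lib.Char.MEleven.Order.Main

/-!
# `M₁₁` is determined by its order and the numbers of elements of each order
-/

set_option autoImplicit false
set_option linter.all false

open Subgroup

namespace CfsgLib.Char.MEleven.Order

universe u

variable {G : Type u} [Group G] [Finite G]

/-- The number of elements of prime order. -/
theorem card_order_prime {p : ℕ} [hp : Fact p.Prime] (hS : ∀ S : Sylow p G, Nat.card (S : Subgroup G) = p) :
    Nat.card {g : G // orderOf g = p} = Nat.card (Sylow p G) * (p - 1) := by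
  classical
  haveI := Fintype.ofFinite (Sylow p G)
  have key : ∀ (g : G), orderOf g = p → ∀ S : Sylow p G, g ∈ (S : Subgroup G) → (S : Subgroup G) = zpowers g :=
    fun g hg S hgS => (eq_of_le_of_card_ge (zpowers_le.2 hgS) (by rw [hS, Nat.card_zpowers, hg])).symm
  have hex : ∀ g : G, orderOf g = p → ∃ S : Sylow p G, g ∈ (S : Subgroup G) := fun g hg => by
    obtain ⟨S, h⟩ := (IsPGroup.of_card (p := p) (n := 1) (G := zpowers g)
      (by rw [Nat.card_zpowers, hg, pow_one])).exists_le_sylow
    exact ⟨S, h (mem_zpowers g)⟩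
  have hord : ∀ (S : Sylow p G) (g : (S : Subgroup G)), g ≠ 1 → orderOf (g : G) = p := by
    intro S g hne
    have h1 := orderOf_dvd_natCard g
    rw [hS] at h1
    rcases (Nat.dvd_prime hp.out).1 h1 with h | h
    · exact absurd (orderOf_eq_one_iff.1 h) hne
    · rw [Subgroup.orderOf_coe, h]
  let f : (Σ S : Sylow p G, {g : (S : Subgroup G) // g ≠ 1}) → {g : G // orderOf g = p} :=
    fun q => ⟨((q.2.1 : (q.1 : Subgroup G)) : G), hord q.1 q.2.1 q.2.2⟩
  have hf : Function.Bijective f := by
    refine ⟨?_, fun g => ?_⟩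
    · rintro ⟨S, ⟨a, ha⟩⟩ ⟨T, ⟨b, hb⟩⟩ e
      have e1 : (a : G) = b := congrArg Subtype.val e
      obtain rfl : S = T := Sylow.ext ((key _ (hord S a ha) S a.2).trans
        (key _ (hord S a ha) T (e1 ▸ b.2)).symm)
      obtain rfl : a = b := Subtype.ext e1
      rfl
    · obtain ⟨S, hgS⟩ := hex g.1 g.2
      refine ⟨⟨S, ⟨⟨g.1, hgS⟩, fun e => ?_⟩⟩, rfl⟩
      have e1 : (g.1 : G) = 1 := congrArg Subtype.val e
      have := g.2
      rw [e1, orderOf_one] at this
      exact hp.out.one_lt.ne this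
  rw [← Nat.card_eq_of_bijective f hf, Nat.card_sigma,
    Finset.sum_congr rfl (g := fun _ => p - 1) fun S _ => ?_, Finset.sum_const, smul_eq_mul,
    Finset.card_univ, ← Nat.card_eq_fintype_card]
  haveI := Fintype.ofFinite (S : Subgroup G)
  rw [Nat.card_eq_fintype_card, Fintype.card_subtype_compl, Fintype.card_subtype_eq,
    ← Nat.card_eq_fintype_card, hS]

/-- A set of elements stable under conjugation, all of whose classes have length divisible by `d`. -/
theorem dvd_card_stable {d : ℕ} {p : G → Prop} (hconj : ∀ g x, p x → p (g * x * g⁻¹))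
    (hd : ∀ x, p x → d ∣ (centralizer ({x} : Set G)).index) : d ∣ Nat.card {x : G // p x} := by
  classical
  haveI := Fintype.ofFinite G
  haveI := Fintype.ofFinite (ConjClasses G)
  rw [Nat.card_eq_fintype_card, Fintype.card_subtype,
    Finset.card_eq_sum_card_fiberwise (f := ConjClasses.mk) (t := Finset.univ) fun _ _ => Finset.mem_univ _]
  refine Finset.dvd_sum fun C _ => ?_
  obtain ⟨a, rfl⟩ := ConjClasses.mk_surjective C
  by_cases ha : p a
  · rw [Finset.filter_filter, ← Fintype.card_subtype, ← Nat.card_eq_fintype_card]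
    refine dvd_trans (hd a ha) (dvd_of_eq ?_)
    rw [← CfsgLib.Char.card_isConj]
    refine Nat.card_congr (Equiv.subtypeEquivRight fun x => ⟨fun h => ⟨?_, ?_⟩, fun h => ?_⟩)
    · obtain ⟨g, rfl⟩ := isConj_iff.1 h; exact hconj g a ha
    · exact ConjClasses.mk_eq_mk_iff_isConj.2 h.symm
    · exact (ConjClasses.mk_eq_mk_iff_isConj.1 h.2).symm
  · rw [Finset.card_eq_zero.2 (Finset.filter_eq_empty_iff.2 fun x hx e => ha ?_)]
    · exact dvd_zero d
    · obtain ⟨g, hg⟩ := isConj_iff.1 (ConjClasses.mk_eq_mk_iff_isConj.1 e)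
      exact hg ▸ hconj g x (Finset.mem_filter.1 hx).2

/-- The class lengths of a simple group of order 7920. -/
theorem counts [IsSimpleGroup G] (h : Nat.card G = 7920) (n : ℕ) :
    Nat.card {g : G // orderOf g = n} ≤ 1 ∨ 165 ∣ Nat.card {g : G // orderOf g = n} ∨
      440 ∣ Nat.card {g : G // orderOf g = n} ∨ 1584 ∣ Nat.card {g : G // orderOf g = n} ∨
      720 ∣ Nat.card {g : G // orderOf g = n} := by
  classical
  haveI : Fact (Nat.Prime 2) := ⟨Nat.prime_two⟩
  have H := ghyp h
  obtain ⟨t, ht⟩ := exists_prime_orderOf_dvd_card' (G := G) 2 (by rw [h]; norm_num)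
  obtain ⟨e⟩ := cent_iso_of_simple h ht
  obtain ⟨el, hel⟩ := CfsgLib.Char.GLThreeCent.exists_emb t ht e
  have hno : ∀ K : Subgroup G, K.index ≠ 2 := fun K hK => by
    haveI := normal_of_index_eq_two hK
    rcases Normal.eq_bot_or_eq_top (H := K) inferInstance with rfl | rfl
    · rw [index_bot, h] at hK; norm_num at hK
    · rw [index_top] at hK; norm_num at hK
  have hc3 : ∀ z : G, orderOf z = 3 → Nat.card (centralizer ({z} : Set G)) = 18 := fun z hz =>
    CfsgLib.Char.MEleven.MHyp.cent_three (t := t) (el := el) ⟨hel, h, hno⟩ hz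
  -- class lengths through a power of prime order
  have key : ∀ q c d : ℕ, c * d = 7920 → (∀ y : G, orderOf y = q → Nat.card (centralizer ({y} : Set G)) = c) →
      ∀ x : G, q ∣ orderOf x → d ∣ (centralizer ({x} : Set G)).index := by
    intro q c d hcd hq x hx
    obtain ⟨m, hm⟩ := hx
    have hq0 : 0 < q := by
      rcases Nat.eq_zero_or_pos q with e | e
      · rw [e, zero_mul] at hm; exact absurd hm (orderOf_pos x).ne'
      · exact e
    have hy : orderOf (x ^ m) = q := by
      have hm0 : m ≠ 0 := fun e => by rw [e, mul_zero] at hm; exact (orderOf_pos x).ne' hm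
      rw [orderOf_pow' x hm0, hm, Nat.gcd_mul_left_left q m,
        Nat.mul_div_cancel _ (Nat.pos_of_ne_zero hm0)]
    have hle : centralizer ({x} : Set G) ≤ centralizer ({x ^ m} : Set G) := fun a ha =>
      mem_centralizer_singleton_iff.2 (((show Commute x a from
        (mem_centralizer_singleton_iff.1 ha).symm).pow_left m).eq.symm)
    refine dvd_trans ?_ (index_dvd_of_le hle)
    have h1 := card_mul_index (centralizer ({x ^ m} : Set G))
    rw [hq _ hy, h, ← hcd] at h1
    rw [Nat.eq_of_mul_eq_mul_left (by rcases Nat.eq_zero_or_pos c with e | e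
                                      · rw [e, zero_mul] at hcd; norm_num at hcd
                                      · exact e) h1]
  have stable : ∀ g x : G, orderOf x = n → orderOf (g * x * g⁻¹) = n := fun g x hx =>
    ((MulAut.conj g).orderOf_eq x).trans hx
  by_cases h2 : 2 ∣ n
  · exact Or.inr (Or.inl (dvd_card_stable stable fun x hx => key 2 48 165 (by norm_num) H.cent x (hx ▸ h2)))
  by_cases h3 : 3 ∣ n
  · exact Or.inr (Or.inr (Or.inl (dvd_card_stable stable fun x hx =>
      key 3 18 440 (by norm_num) hc3 x (hx ▸ h3))))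
  by_cases h5 : 5 ∣ n
  · exact Or.inr (Or.inr (Or.inr (Or.inl (dvd_card_stable stable fun x hx =>
      key 5 5 1584 (by norm_num) H.five x (hx ▸ h5)))))
  by_cases h11 : 11 ∣ n
  · exact Or.inr (Or.inr (Or.inr (Or.inr (dvd_card_stable stable fun x hx =>
      key 11 11 720 (by norm_num) H.eleven x (hx ▸ h11)))))
  left
  refine Finite.card_le_one_iff_subsingleton.2 ⟨fun a b => Subtype.ext ?_⟩
  have h1 : ∀ x : G, orderOf x = n → x = 1 := by
    intro x hx
    rw [← orderOf_eq_one_iff]
    by_contra hne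
    obtain ⟨q, hq, hqd⟩ := Nat.exists_prime_and_dvd hne
    have hqn : q ∣ n := hx ▸ hqd
    have hq7 : q ∣ 2 ^ 4 * 3 ^ 2 * 5 * 11 := by
      have := hqd.trans (orderOf_dvd_natCard x); rwa [h] at this
    rcases hq.dvd_mul.1 hq7 with e | e
    · rcases hq.dvd_mul.1 e with e | e
      · rcases hq.dvd_mul.1 e with e | e
        · exact h2 (((Nat.prime_dvd_prime_iff_eq hq Nat.prime_two).1 (hq.dvd_of_dvd_pow e)) ▸ hqn)
        · exact h3 (((Nat.prime_dvd_prime_iff_eq hq Nat.prime_three).1 (hq.dvd_of_dvd_pow e)) ▸ hqn)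
      · exact h5 (((Nat.prime_dvd_prime_iff_eq hq (by norm_num)).1 e) ▸ hqn)
    · exact h11 (((Nat.prime_dvd_prime_iff_eq hq (by norm_num)).1 e) ▸ hqn)
  rw [h1 a a.2, h1 b b.2]

/-- A subgroup of order eleven acting without fixed points. -/
theorem free_mod {M : Subgroup G} {P : Subgroup G} (hP : Nat.card P = 11)
    (hn : P ≤ normalizer (M : Set G)) (hfree : ∀ m ∈ M, (∀ p ∈ P, p * m = m * p) → m = 1) :
    Nat.card M % 11 = 1 := by
  classical
  haveI : Fact (Nat.Prime 11) := ⟨by norm_num⟩
  have hPp : IsPGroup 11 P := IsPGroup.of_card (n := 1) (by rw [hP, pow_one])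
  let φ : P →* MulAut M := (normalizerMonoidHom M).comp (Subgroup.inclusion hn)
  have hφ : ∀ (p : P) (m : M), ((φ p m : M) : G) = (p : G) * m * (p : G)⁻¹ := fun p m => rfl
  letI : MulAction P M := MulAction.compHom M φ
  have hm := hPp.card_modEq_card_fixedPoints M
  have hfix : Nat.card (MulAction.fixedPoints P M) = 1 := by
    rw [Nat.card_eq_one_iff_unique]
    have h1 : ∀ a : MulAction.fixedPoints P M, a.1 = 1 := by
      intro a
      refine Subtype.ext (hfree _ a.1.2 fun p hp => ?_)
      have e : ((φ ⟨p, hp⟩ a.1 : M) : G) = (a.1 : G) := congrArg Subtype.val (a.2 ⟨p, hp⟩)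
      rw [hφ] at e
      exact mul_inv_eq_iff_eq_mul.1 e
    exact ⟨⟨fun a b => Subtype.ext ((h1 a).trans (h1 b).symm)⟩,
      ⟨⟨1, fun p => (show φ p 1 = 1 from map_one _)⟩⟩⟩
  rw [hfix] at hm
  exact hm

/-- An element of order eleven of a group of order coprime to eleven fixing only the identity. -/
theorem no_fixed_free {M : Subgroup G} {P : Subgroup G} (hP : Nat.card P = 11) (hM : Nat.card M ∣ 720)
    (h3 : 3 ∣ Nat.card M) (hn : P ≤ normalizer (M : Set G))
    (hfree : ∀ m ∈ M, (∀ p ∈ P, p * m = m * p) → m = 1) : False := by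
  classical
  haveI : Fact (Nat.Prime 11) := ⟨by norm_num⟩
  haveI : Fact (Nat.Prime 3) := ⟨Nat.prime_three⟩
  have hPp : IsPGroup 11 P := IsPGroup.of_card (n := 1) (by rw [hP, pow_one])
  let φ : P →* MulAut M := (normalizerMonoidHom M).comp (Subgroup.inclusion hn)
  have hφ : ∀ (p : P) (m : M), ((φ p m : M) : G) = (p : G) * m * (p : G)⁻¹ := fun p m => rfl
  -- the Sylow three-subgroups of `M`
  letI : MulAction P (Sylow 3 M) := MulAction.compHom _ φ
  have hnd : ¬ 11 ∣ Nat.card (Sylow 3 M) := by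
    intro hd
    obtain ⟨R⟩ : Nonempty (Sylow 3 M) := inferInstance
    have := (hd.trans R.card_dvd_index).trans (Subgroup.index_dvd_card _)
    exact absurd (this.trans hM) (by norm_num)
  obtain ⟨R, hR⟩ := hPp.nonempty_fixed_point_of_prime_not_dvd_card (Sylow 3 M) hnd
  have hRc : Nat.card (R : Subgroup M) = 3 ∨ Nat.card (R : Subgroup M) = 9 := by
    obtain ⟨k, hk⟩ := R.2.exists_card_eq
    have h1 : 3 ∣ Nat.card (R : Subgroup M) := R.dvd_card_of_dvd_card h3
    have h2 : Nat.card (R : Subgroup M) ∣ 720 := (card_subgroup_dvd_card _).trans hM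
    rw [hk] at h1 h2 ⊢
    rcases k with _ | _ | _ | k
    · norm_num at h1
    · left; rfl
    · right; rfl
    · exfalso
      exact absurd ((pow_dvd_pow 3 (by omega : 3 ≤ k + 1 + 1 + 1)).trans h2) (by norm_num)
  have hstab : ∀ (p : P), ∀ r ∈ (R : Subgroup M), φ p r ∈ (R : Subgroup M) := by
    intro p r hr
    have e' : φ p • R = R := hR p
    rw [← e']
    exact ⟨r, hr, rfl⟩
  have hnR : P ≤ normalizer (((R : Subgroup M).map M.subtype : Subgroup G) : Set G) := by
    intro p hp
    refine mem_normalizer_iff.2 fun x => ⟨?_, ?_⟩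
    · rintro ⟨r, hr, rfl⟩
      exact ⟨_, hstab ⟨p, hp⟩ r hr, hφ _ _⟩
    · rintro ⟨r, hr, e⟩
      refine ⟨_, hstab ⟨p, hp⟩⁻¹ r hr, ?_⟩
      show ((φ ⟨p, hp⟩⁻¹ r : M) : G) = x
      rw [hφ]
      show p⁻¹ * (r : G) * p⁻¹⁻¹ = x
      rw [show (r : G) = p * x * p⁻¹ from e]
      group
  have hmod := free_mod hP hnR fun m hm => hfree m (map_subtype_le _ hm)
  rw [card_map_of_injective M.subtype_injective] at hmod
  rcases hRc with e | e <;> rw [e] at hmod <;> norm_num at hmod

/-- Simplicity from the numbers of elements of order five and eleven. -/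
theorem simple_of_sylow (h : Nat.card G = 7920) (h11 : Nat.card (Sylow 11 G) = 144)
    (h5 : Nat.card (Sylow 5 G) = 396) : IsSimpleGroup G := by
  classical
  haveI : Fact (Nat.Prime 11) := ⟨by norm_num⟩
  haveI : Fact (Nat.Prime 5) := ⟨by norm_num⟩
  haveI : Nontrivial G := Finite.one_lt_card_iff_nontrivial.1 (by rw [h]; norm_num)
  have hPc : ∀ P : Sylow 11 G, Nat.card (P : Subgroup G) = 11 := by
    intro P
    rw [P.card_eq_multiplicity, h, CfsgLib.Char.MEleven.fac_eleven, pow_one]
  have hNP : ∀ P : Sylow 11 G, Nat.card (normalizer ((P : Sylow 11 G) : Set G)) = 55 := by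
    intro P
    have e := card_mul_index (normalizer ((P : Sylow 11 G) : Set G))
    rw [← P.card_eq_index_normalizer, h11, h] at e
    omega
  have hNQ : ∀ Q : Sylow 5 G, Nat.card (normalizer ((Q : Sylow 5 G) : Set G)) = 20 := by
    intro Q
    have e := card_mul_index (normalizer ((Q : Sylow 5 G) : Set G))
    rw [← Q.card_eq_index_normalizer, h5, h] at e
    omega
  -- an element centralizing a Sylow eleven-subgroup lies in it
  have hC : ∀ (P : Sylow 11 G) (m : G), (∀ p ∈ (P : Subgroup G), p * m = m * p) → orderOf m ∣ 11 := by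
    intro P m hm
    have hmN : m ∈ normalizer ((P : Sylow 11 G) : Set G) :=
      centralizer_le_normalizer _ (mem_centralizer_iff.2 hm)
    have h55 := Subgroup.orderOf_dvd_natCard _ hmN
    rw [hNP] at h55
    by_contra hno
    have h5d : 5 ∣ orderOf m := by
      by_contra h5n
      exact hno (((by norm_num : Nat.Prime 5).coprime_iff_not_dvd.2 h5n).symm.dvd_of_dvd_mul_left
        (show orderOf m ∣ 5 * 11 from h55))
    obtain ⟨j, hj⟩ := h5d
    have hj0 : j ≠ 0 := fun e => by rw [e, mul_zero] at hj; exact (orderOf_pos m).ne' hj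
    have hy : orderOf (m ^ j) = 5 := by
      rw [orderOf_pow' m hj0, hj, Nat.gcd_mul_left_left 5 j, Nat.mul_div_cancel _ (Nat.pos_of_ne_zero hj0)]
    obtain ⟨Q, hQ⟩ := (IsPGroup.of_card (p := 5) (n := 1) (G := zpowers (m ^ j))
      (by rw [Nat.card_zpowers, hy, pow_one])).exists_le_sylow
    have hQc : Nat.card (Q : Subgroup G) = 5 := by
      rw [Q.card_eq_multiplicity, h, CfsgLib.Char.MEleven.fac_five, pow_one]
    have hQe : zpowers (m ^ j) = (Q : Subgroup G) :=
      eq_of_le_of_card_ge hQ (by rw [hQc, Nat.card_zpowers, hy])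
    obtain ⟨w, hw⟩ := exists_prime_orderOf_dvd_card' (G := (P : Subgroup G)) 11 (by rw [hPc])
    have hwN : (w : G) ∈ normalizer ((Q : Subgroup G) : Set G) := by
      refine centralizer_le_normalizer _ ?_
      rw [← hQe]
      refine mem_centralizer_iff.2 ?_
      rintro y ⟨k, rfl⟩
      exact (((show Commute m w from (hm w w.2).symm).pow_left j).zpow_left k).eq
    have h20 : orderOf (w : G) ∣ 20 := hNQ Q ▸ Subgroup.orderOf_dvd_natCard _ hwN
    rw [Subgroup.orderOf_coe, hw] at h20
    norm_num at h20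
  refine ⟨fun N hN => or_iff_not_imp_left.2 fun hbot => ?_⟩
  haveI := hN
  have hN1 : 1 < Nat.card N := (Subgroup.one_lt_card_iff_ne_bot N).2 hbot
  have hNd : Nat.card N ∣ 7920 := h ▸ card_subgroup_dvd_card N
  obtain ⟨P⟩ : Nonempty (Sylow 11 G) := inferInstance
  -- fixed-point-free action on normal subgroups of order prime to eleven
  have hfree : ∀ (M : Subgroup G), ¬ 11 ∣ Nat.card M → ∀ m ∈ M, (∀ p ∈ (P : Subgroup G), p * m = m * p) → m = 1 := by
    intro M h11M m hm hc
    rcases (Nat.dvd_prime (by norm_num : Nat.Prime 11)).1 (hC P m hc) with e | e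
    · exact orderOf_eq_one_iff.1 e
    · exact absurd (e ▸ Subgroup.orderOf_dvd_natCard M hm) h11M
  by_cases h11N : 11 ∣ Nat.card N
  · -- all Sylow subgroups lie in `N`
    have hPN : (P : Subgroup G) ≤ N := by
      obtain ⟨y, hy⟩ := exists_prime_orderOf_dvd_card' (G := N) 11 h11N
      obtain ⟨S, hS⟩ := (IsPGroup.of_card (p := 11) (n := 1) (G := zpowers (y : G))
        (by rw [Nat.card_zpowers, Subgroup.orderOf_coe, hy, pow_one])).exists_le_sylow
      have hSe : zpowers (y : G) = (S : Subgroup G) :=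
        eq_of_le_of_card_ge hS (by rw [hPc, Nat.card_zpowers, Subgroup.orderOf_coe, hy])
      obtain ⟨g, rfl⟩ := MulAction.exists_smul_eq G S P
      rintro _ ⟨s, hs, rfl⟩
      exact hN.conj_mem _ ((hSe ▸ zpowers_le.2 y.2 : (S : Subgroup G) ≤ N) hs) g
    by_contra htop
    -- the index is five
    have hidx : N.index ∣ 55 := by
      have hsup : normalizer ((P : Sylow 11 G) : Set G) ⊔ N = ⊤ := by
        have h1 := Sylow.normalizer_sup_eq_top (P.subtype hPN)
        rw [Sylow.coe_subtype, Subgroup.map_subgroupOf_eq_of_le hPN] at h1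
        exact h1
      rw [← relIndex_top_right N, ← hsup, sup_comm, Subgroup.relIndex_sup_left]
      exact (relIndex_dvd_card N (normalizer ((P : Sylow 11 G) : Set G))).trans (hNP P).dvd
    have hN5 : Nat.card N = 1584 := by
      have e := N.card_mul_index
      rw [h] at e
      obtain ⟨a, ha⟩ := h11N
      have hi : N.index = 5 := by
        have h55 : ∀ i < 56, i ∣ 55 → i = 1 ∨ i = 5 ∨ i = 11 ∨ i = 55 := by decide
        rcases h55 _ (Nat.lt_succ_of_le (Nat.le_of_dvd (by norm_num) hidx)) hidx with d | d | d | d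
        · exact absurd (index_eq_one.1 d) htop
        · exact d
        · rw [ha, d] at e; omega
        · rw [ha, d] at e; omega
      rw [hi] at e
      omega
    set PN : Sylow 11 N := P.subtype hPN with hPNdef
    have hPNc : Nat.card (PN : Subgroup N) = 11 := by
      rw [hPNdef, Sylow.coe_subtype, Nat.card_congr (subgroupOfEquivOfLe hPN).toEquiv, hPc]
    have hle : normalizer ((PN : Subgroup N) : Set N) ≤ centralizer ((PN : Subgroup N) : Set N) := by
      have hd : Nat.card (normalizer ((PN : Subgroup N) : Set N)) ∣ 55 := by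
        rw [← hNP P, ← card_map_of_injective (f := N.subtype) N.subtype_injective]
        refine card_dvd_of_le ?_
        rintro _ ⟨n, hn, rfl⟩
        refine mem_normalizer_iff.2 fun x => ⟨fun hx => ?_, fun hx => ?_⟩
        · exact ((mem_normalizer_iff.1 hn ⟨x, hPN hx⟩).1 hx :)
        · have hxN : x ∈ N := by
            have h1 := N.mul_mem (N.mul_mem (N.inv_mem n.2) (hPN hx)) n.2
            simpa [mul_assoc] using h1
          exact ((mem_normalizer_iff.1 hn ⟨x, hxN⟩).2 hx :)
      have hd2 : Nat.card (normalizer ((PN : Subgroup N) : Set N)) ∣ 11 := by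
        have h1 : Nat.card (normalizer ((PN : Subgroup N) : Set N)) ∣ 1584 := hN5 ▸ card_subgroup_dvd_card _
        have h2 := Nat.dvd_gcd hd h1
        simpa using h2
      have he : normalizer ((PN : Subgroup N) : Set N) = (PN : Subgroup N) :=
        (eq_of_le_of_card_ge le_normalizer (by rw [hPNc]; exact Nat.le_of_dvd (by norm_num) hd2)).symm
      rw [he]
      haveI : IsMulCommutative (PN : Subgroup N) := (isCyclic_of_prime_card hPNc).isMulCommutative
      exact le_centralizer _
    obtain ⟨K, hKn, hKc⟩ : ∃ K : Subgroup N, K.Normal ∧ Nat.card K = 144 := by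
      refine ⟨(MonoidHom.transferSylow PN hle).ker, MonoidHom.normal_ker _, ?_⟩
      have h1 := (MonoidHom.ker_transferSylow_isComplement' PN hle).card_mul
      rw [hPNc, hN5] at h1
      omega
    refine no_fixed_free (M := K.map N.subtype) (hPc P) ?_ ?_ ?_ (hfree _ ?_)
    · rw [card_map_of_injective N.subtype_injective, hKc]; norm_num
    · rw [card_map_of_injective N.subtype_injective, hKc]; norm_num
    · intro p hp
      refine mem_normalizer_iff.2 fun x => ⟨?_, ?_⟩
      · rintro ⟨k, hk, rfl⟩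
        exact ⟨⟨p, hPN hp⟩ * k * ⟨p, hPN hp⟩⁻¹, hKn.conj_mem k hk _, rfl⟩
      · rintro ⟨k, hk, e⟩
        refine ⟨⟨p, hPN hp⟩⁻¹ * k * ⟨p, hPN hp⟩⁻¹⁻¹, hKn.conj_mem k hk _, ?_⟩
        show p⁻¹ * (k : G) * p⁻¹⁻¹ = x
        rw [show (k : G) = p * x * p⁻¹ from e]
        group
    · rw [card_map_of_injective N.subtype_injective, hKc]; norm_num
  · exfalso
    have hd : Nat.card N ∣ 720 :=
      ((by norm_num : Nat.Prime 11).coprime_iff_not_dvd.2 h11N).symm.dvd_of_dvd_mul_left
        (show Nat.card N ∣ 11 * 720 from hNd)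
    have hmod : Nat.card N % 11 = 1 :=
      free_mod (hPc P) (normalizer_eq_top (H := N) ▸ le_top) (hfree N h11N)
    have h3 : 3 ∣ Nat.card N := by
      have key : ∀ n ∈ Nat.divisors 720, n % 11 = 1 → 1 < n → 3 ∣ n := by decide +kernel
      exact key _ (Nat.mem_divisors.2 ⟨hd, by norm_num⟩) hmod hN1
    exact no_fixed_free (hPc P) hd h3 (normalizer_eq_top (H := N) ▸ le_top) (hfree N h11N)

theorem iso_m11_of_nse (hcard : Nat.card G = Nat.card ↥Cfsg.Spor.M11)
    (hnse : {c : ℕ | 0 < c ∧ ∃ n : ℕ, c = Nat.card {g : G // orderOf g = n}} =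
      {c : ℕ | 0 < c ∧ ∃ n : ℕ, c = Nat.card {g : ↥Cfsg.Spor.M11 // orderOf g = n}}) :
    Nonempty (G ≃* ↥Cfsg.Spor.M11) := by
  classical
  haveI := CfsgLib.Char.MEleven.simple_sporM11
  have hM := CfsgLib.Spor.card_sporM11
  have h : Nat.card G = 7920 := hcard.trans hM
  have hcand : ∀ p : ℕ, p.Prime → p ∣ 7920 →
      ∀ c : ℕ, Nat.card {g : G // orderOf g = p} = c →
        c ≤ 1 ∨ 165 ∣ c ∨ 440 ∣ c ∨ 1584 ∣ c ∨ 720 ∣ c := by
    intro p hp hpd c hc
    haveI : Fact p.Prime := ⟨hp⟩
    obtain ⟨g, hg⟩ := exists_prime_orderOf_dvd_card' (G := G) p (h ▸ hpd)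
    haveI : Nonempty {g : G // orderOf g = p} := ⟨⟨g, hg⟩⟩
    have hmem : c ∈ {c : ℕ | 0 < c ∧ ∃ n : ℕ, c = Nat.card {g : G // orderOf g = n}} :=
      ⟨hc ▸ Nat.card_pos, p, hc.symm⟩
    rw [hnse] at hmem
    obtain ⟨-, n, hn⟩ := hmem
    rw [hn]
    exact counts hM n
  haveI : Fact (Nat.Prime 11) := ⟨by norm_num⟩
  haveI : Fact (Nat.Prime 5) := ⟨by norm_num⟩
  have h11 : Nat.card (Sylow 11 G) = 144 := by
    have hS : ∀ S : Sylow 11 G, Nat.card (S : Subgroup G) = 11 := fun S => by
      rw [S.card_eq_multiplicity, h, CfsgLib.Char.MEleven.fac_eleven, pow_one]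
    have hd : Nat.card (Sylow 11 G) ∣ 720 := by
      obtain ⟨S⟩ : Nonempty (Sylow 11 G) := inferInstance
      have e := (S : Subgroup G).card_mul_index
      rw [hS, h] at e
      exact S.card_dvd_index.trans (dvd_of_eq (by omega))
    have hmod := card_sylow_modEq_one 11 G
    have hc := hcand 11 (by norm_num) (by norm_num) _ (card_order_prime hS)
    rcases CfsgLib.Char.MEleven.arith_eleven _ (Nat.lt_succ_of_le (Nat.le_of_dvd (by norm_num) hd)) hd hmod
      with e | e | e | e <;> rw [e] at hc <;> first | exact e | norm_num at hc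
  have h5 : Nat.card (Sylow 5 G) = 396 := by
    have hS : ∀ S : Sylow 5 G, Nat.card (S : Subgroup G) = 5 := fun S => by
      rw [S.card_eq_multiplicity, h, CfsgLib.Char.MEleven.fac_five, pow_one]
    have hd : Nat.card (Sylow 5 G) ∈ Nat.divisors 1584 := by
      obtain ⟨S⟩ : Nonempty (Sylow 5 G) := inferInstance
      have e := (S : Subgroup G).card_mul_index
      rw [hS, h] at e
      exact Nat.mem_divisors.2 ⟨S.card_dvd_index.trans (dvd_of_eq (by omega)), by norm_num⟩
    have hmod := card_sylow_modEq_one 5 G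
    have hc := hcand 5 (by norm_num) (by norm_num) _ (card_order_prime hS)
    have key : ∀ n ∈ Nat.divisors 1584, n % 5 = 1 % 5 → (n * 4 ≤ 1 ∨ 165 ∣ n * 4 ∨ 440 ∣ n * 4 ∨
      1584 ∣ n * 4 ∨ 720 ∣ n * 4) → n = 396 := by decide +kernel
    exact key _ hd hmod hc
  haveI := simple_of_sylow h h11 h5
  exact iso_m11_of_simple h

end CfsgLib.Char.MEleven.Order
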